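import Groth.Agent.EtFound.Henselian
import Groth.Agent.EtFound.LocConst
import Groth.Agent.EtFound.ConstStalk
import Groth.Agent.EtFound.FieldExt
import Groth.Prelude.Def_EtBase

/-!
# Locally constant sheaves over strictly henselian local rings are constant
-/

universe u

open CategoryTheory CategoryTheory.Limits AlgebraicGeometry Opposite

namespace Groth.Agent.EtRest69

set_option backward.isDefEq.respectTransparency.types false

open Groth.Agent.EtFound

variable (R : Type u) [CommRing R] [HenselianLocalRing R] [IsSepClosed (IsLocalRing.ResidueField R)]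

/-- locally constant sheaves over strictly henselian rings are constant -/
theorem exists_iso_const {G : EtCoh.Ab (Spec (CommRingCat.of R))} {ι : Type u}
    (U : ι → (Spec (CommRingCat.of R)).Etale) (hU : EtCoh.Covers U)
    (h : ∀ i, ∃ (M : AddCommGrpCat.{u + 1}) (φ : M ⟶ G.obj.obj (op (U i))), ConstBy G φ) :
    ∃ M : AddCommGrpCat.{u + 1}, Nonempty
      (G ≅ (constantSheaf (Spec (CommRingCat.of R)).smallEtaleTopology AddCommGrpCat.{u + 1}).obj M) := by
  obtain ⟨i, y, hy⟩ := hU ((cpt R).base default)
  obtain ⟨z, -⟩ := Scheme.pointSmallEtaleFiberObjToPreimage_surjective (cpt R) rfl (U i) ⟨y, hy⟩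
  obtain ⟨g, -, -⟩ := existsUnique_hom R (U i) z
  obtain ⟨M, φ, hφ⟩ := h i
  let top := EtCoh.top (Spec (CommRingCat.of R))
  let ψ : M ⟶ G.obj.obj (op top) := φ ≫ G.obj.map g.op
  have hψ : ConstBy G ψ := hφ.restrict g
  let J := (Spec (CommRingCat.of R)).smallEtaleTopology
  let adj := constantSheafAdj J AddCommGrpCat.{u + 1} (topIsTerminal (Spec (CommRingCat.of R)))
  let a : (constantSheaf J AddCommGrpCat.{u + 1}).obj M ⟶ G := (adj.homEquiv M G).symm ψ
  have hunit : adj.unit.app M = (toSheafify J ((Functor.const _).obj M)).app (op top) := by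
    simp [adj, constantSheafAdj]
    rfl
  suffices IsIso a from ⟨M, ⟨(asIso a).symm⟩⟩
  refine (isIso_iff_stalks a).2 fun K _ _ ξ => ?_
  let l : Spec (CommRingCat.of (AlgebraicClosure K)) ⟶ Spec (CommRingCat.of K) :=
    Spec.map (CommRingCat.ofHom (algebraMap K (AlgebraicClosure K)))
  refine (NatIso.isIso_map_iff (stalkExtIso AddCommGrpCat.{u + 1} ξ l) _).2 ?_
  let η := l ≫ ξ
  let u : (Scheme.pointSmallEtale η).fiber.obj top := CategoryTheory.Over.homMk η (Category.comp_id _)
  have h2 := toSheafify_const_germ_bijective η AddCommGrpCat.{u + 1} M top u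
  refine (ConcreteCategory.isIso_iff_bijective _).2 (Function.Bijective.of_comp_iff _ h2 |>.1 ?_)
  refine Eq.mp (congrArg Function.Bijective (funext fun m => ?_)) (hψ (AlgebraicClosure K) η u)
  have e : a.hom.app (op top) (adj.unit.app M m) = ψ m := by
    have e1 := (adj.homEquiv_unit M G a).symm.trans ((adj.homEquiv M G).apply_symm_apply ψ)
    exact ConcreteCategory.congr_hom e1 m
  rw [hunit] at e
  refine (ConcreteCategory.comp_apply ψ _ m).trans ?_
  rw [← e]
  exact ((Scheme.pointSmallEtale η).toPresheafFiber_naturality_apply a.hom top u _).symm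

end Groth.Agent.EtRest69
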