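import Mathlib.Algebra.Category.Grp.FilteredColimits
import Mathlib.CategoryTheory.Preadditive.AdditiveFunctor
import Mathlib.CategoryTheory.Filtered.Basic
import Mathlib.GroupTheory.FiniteAbelian.Basic

/-!
# Natural transformations which are isomorphisms on cyclic groups are isomorphisms on torsion groups
-/

universe v w u

open CategoryTheory CategoryTheory.Limits
open scoped DirectSum

namespace Groth.Agent.EtRest69

variable {C : Type u} [Category.{w} C] [Preadditive C]
  {F G : AddCommGrpCat.{v} ⥤ C} [F.Additive] [G.Additive] (τ : F ⟶ G)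

/-- natural transformations which are isomorphisms on enough direct summands are isomorphisms -/
theorem isIso_app_of_sum {M : AddCommGrpCat.{v}} {κ : Type} [Fintype κ] (A : κ → AddCommGrpCat.{v})
    (π : ∀ i, M ⟶ A i) (ι : ∀ i, A i ⟶ M) (h : ∑ i, π i ≫ ι i = 𝟙 M) (hA : ∀ i, IsIso (τ.app (A i))) :
    IsIso (τ.app M) := by
  refine ⟨∑ i, G.map (π i) ≫ inv (τ.app (A i)) ≫ F.map (ι i), ?_, ?_⟩
  · rw [Preadditive.comp_sum, ← F.map_id, ← h, Functor.map_sum]
    refine Finset.sum_congr rfl fun i _ => ?_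
    rw [← τ.naturality_assoc, IsIso.hom_inv_id_assoc, F.map_comp]
  · rw [Preadditive.sum_comp, ← G.map_id, ← h, Functor.map_sum]
    refine Finset.sum_congr rfl fun i _ => ?_
    rw [Category.assoc, Category.assoc, τ.naturality, IsIso.inv_hom_id_assoc, G.map_comp]

variable (Q : ℕ → Prop) (hQ : ∀ ⦃n d : ℕ⦄, Q n → d ∣ n → Q d)
  (hcyc : ∀ d : ℕ, Q d → IsIso (τ.app (AddCommGrpCat.of (ULift.{v} (ZMod d)))))

include hQ hcyc in
theorem isIso_app_of_finite (M : AddCommGrpCat.{v}) [Finite M] (hM : ∀ m : M, ∃ n, Q n ∧ n • m = 0) :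
    IsIso (τ.app M) := by
  classical
  obtain ⟨ι, _, p, -, e, ⟨φ⟩⟩ := AddCommGroup.equiv_directSum_zmod_of_finite M
  let π : ∀ i, M ⟶ AddCommGrpCat.of (ULift.{v} (ZMod (p i ^ e i))) := fun i => AddCommGrpCat.ofHom
    ((AddEquiv.ulift.symm.toAddMonoidHom).comp ((DFinsupp.evalAddMonoidHom i).comp φ.toAddMonoidHom))
  let inj : ∀ i, AddCommGrpCat.of (ULift.{v} (ZMod (p i ^ e i))) ⟶ M := fun i => AddCommGrpCat.ofHom
    (φ.symm.toAddMonoidHom.comp ((DirectSum.of (fun i => ZMod (p i ^ e i)) i).comp AddEquiv.ulift.toAddMonoidHom))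
  refine isIso_app_of_sum τ _ π inj ?_ fun i => hcyc _ ?_
  · ext m
    refine (congrArg (fun g : _ →+ _ => g m) (map_sum (AddCommGrpCat.homAddEquiv.toAddMonoidHom) _ _)).trans ?_
    rw [AddMonoidHom.finsetSum_apply]
    show ∑ i, φ.symm (DirectSum.of (fun i => ZMod (p i ^ e i)) i (φ m i)) = m
    rw [← map_sum, DirectSum.sum_univ_of, AddEquiv.symm_apply_apply]
  · obtain ⟨n, hn, hnm⟩ := hM (φ.symm (DirectSum.of (fun i => ZMod (p i ^ e i)) i 1))
    refine hQ hn ((ZMod.natCast_eq_zero_iff _ _).1 ?_)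
    rw [← map_nsmul, AddEquiv.map_eq_zero_iff] at hnm
    rw [← map_nsmul] at hnm
    have := DirectSum.of_injective (β := fun i => ZMod (p i ^ e i)) i (hnm.trans (map_zero _).symm)
    simpa using this

section colimit

variable (M : AddCommGrpCat.{v}) (hfin : ∀ m : M, IsOfFinAddOrder m)

/-- the finite subgroups of a group -/
abbrev FinSub : Type v := { H : AddSubgroup M // Finite H }

instance : IsDirectedOrder (FinSub M) := ⟨fun H K => by
  have := H.2
  have := K.2
  refine ⟨⟨H.1 ⊔ K.1, ?_⟩, (le_sup_left : H.1 ≤ H.1 ⊔ K.1), (le_sup_right : K.1 ≤ H.1 ⊔ K.1)⟩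
  exact Finite.of_surjective (fun x : H.1 × K.1 => (⟨(x.1 : M) + x.2,
    AddSubgroup.add_mem_sup x.1.2 x.2.2⟩ : (H.1 ⊔ K.1 : AddSubgroup M))) fun ⟨z, hz⟩ => by
    obtain ⟨a, ha, b, hb, rfl⟩ := AddSubgroup.mem_sup.1 hz
    exact ⟨(⟨a, ha⟩, ⟨b, hb⟩), rfl⟩⟩

instance : Nonempty (FinSub M) := ⟨⟨⊥, inferInstance⟩⟩

/-- the diagram of finite subgroups -/
noncomputable def finDiag : FinSub M ⥤ AddCommGrpCat.{v} where
  obj H := AddCommGrpCat.of H.1
  map f := AddCommGrpCat.ofHom (AddSubgroup.inclusion f.le)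

/-- the cocone of finite subgroups -/
noncomputable def finCocone : Cocone (finDiag M) :=
  Cocone.mk M { app := fun H => AddCommGrpCat.ofHom H.1.subtype }

include hfin in
theorem nonempty_isColimit_finCocone : Nonempty (IsColimit (finCocone M)) := by
  let top : M → FinSub M := fun m => ⟨AddSubgroup.zmultiples m, (hfin m).finite_zmultiples⟩
  have key : ∀ (s : Cocone (finDiag M)) {H K : FinSub M} (f : H ≤ K) (x : H.1),
      s.ι.app K ⟨x.1, f x.2⟩ = s.ι.app H x := fun s H K f x =>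
    ConcreteCategory.congr_hom (s.w (homOfLE f)) x
  have hd : ∀ (s : Cocone (finDiag M)) (H : FinSub M) (x : H.1),
      s.ι.app H x = s.ι.app (top x.1) ⟨x.1, AddSubgroup.mem_zmultiples _⟩ := fun s H x => by
    have f : top x.1 ≤ H := AddSubgroup.zmultiples_le.2 x.2
    exact key s f ⟨x.1, AddSubgroup.mem_zmultiples _⟩
  refine ⟨{ desc := fun s => AddCommGrpCat.ofHom (AddMonoidHom.mk'
              (fun m => s.ι.app (top m) ⟨m, AddSubgroup.mem_zmultiples m⟩) fun a b => ?_)
            fac := fun s H => ?_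
            uniq := fun s g hg => ?_ }⟩
  · obtain ⟨K, ha, hb⟩ := exists_ge_ge (top a) (top b)
    have ha' : a ∈ K.1 := ha (AddSubgroup.mem_zmultiples a)
    have hb' : b ∈ K.1 := hb (AddSubgroup.mem_zmultiples b)
    show _ = _
    rw [← hd s K ⟨a, ha'⟩, ← hd s K ⟨b, hb'⟩, ← hd s K ⟨a + b, add_mem ha' hb'⟩]
    exact map_add (s.ι.app K).hom ⟨a, ha'⟩ ⟨b, hb'⟩
  · ext x
    exact (hd s H x).symm
  · ext m
    exact ConcreteCategory.congr_hom (hg (top m)) ⟨m, AddSubgroup.mem_zmultiples m⟩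

end colimit

include hQ hcyc in
/-- natural transformations of additive functors commuting with filtered colimits which are isomorphisms
on cyclic groups are isomorphisms on torsion groups -/
theorem isIso_app_of_torsion (M : AddCommGrpCat.{v}) (hQ0 : ¬ Q 0) (hM : ∀ m : M, ∃ n, Q n ∧ n • m = 0)
    [PreservesColimitsOfShape (FinSub M) F] [PreservesColimitsOfShape (FinSub M) G] :
    IsIso (τ.app M) := by
  have hfin : ∀ m : M, IsOfFinAddOrder m := fun m => by
    obtain ⟨n, hn, hnm⟩ := hM m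
    exact isOfFinAddOrder_iff_nsmul_eq_zero.2 ⟨n, Nat.pos_of_ne_zero (fun h => hQ0 (h ▸ hn)), hnm⟩
  obtain ⟨hc⟩ := nonempty_isColimit_finCocone M hfin
  have hj : ∀ H, IsIso ((Functor.whiskerLeft (finDiag M) τ).app H) := fun H =>
    haveI : Finite ((finDiag M).obj H) := H.2
    isIso_app_of_finite τ Q hQ hcyc _ fun m => by
      obtain ⟨n, hn, hnm⟩ := hM m.1
      exact ⟨n, hn, Subtype.ext hnm⟩
  have : IsIso (Functor.whiskerLeft (finDiag M) τ) := NatIso.isIso_of_isIso_app _
  let hF := isColimitOfPreserves F hc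
  let hG := isColimitOfPreserves G hc
  have e : τ.app M = (hF.coconePointsIsoOfNatIso hG (asIso (Functor.whiskerLeft (finDiag M) τ))).hom :=
    hF.hom_ext fun H => by
      refine Eq.trans ?_ (IsColimit.comp_coconePointsIsoOfNatIso_hom hF hG _ H).symm
      exact τ.naturality _
  rw [e]
  infer_instance

end Groth.Agent.EtRest69
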