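import Groth.Prelude.Def_EtCore
import Groth.Agent.EtRest69.StrictConst
import Groth.Agent.EtRest69.TorsionColim
import Groth.Agent.EtDerLib.HpullNat
import Groth.Agent.EtLC12.QcqsAcyclic

/-!
# Pullback to a scheme with the cohomology of a point
-/

universe u

open CategoryTheory CategoryTheory.Limits AlgebraicGeometry Opposite CategoryTheory.Abelian

namespace Groth.Agent.EtRest69

set_option backward.isDefEq.respectTransparency.types false

open Groth.Agent.EtFound

theorem additive_constantSheaf (X : Scheme.{u}) :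
    (constantSheaf X.smallEtaleTopology AddCommGrpCat.{u + 1}).Additive := by
  unfold constantSheaf; infer_instance

attribute [local instance] additive_constantSheaf

instance additive_HF (X : Scheme.{u}) (q : ℕ) : (EtCoh.HF X q).Additive := by
  unfold EtCoh.HF; infer_instance

/-- cohomology with constant coefficients -/
noncomputable abbrev cstH (X : Scheme.{u}) (q : ℕ) : AddCommGrpCat.{u + 1} ⥤ AddCommGrpCat.{u + 1} :=
  constantSheaf X.smallEtaleTopology AddCommGrpCat.{u + 1} ⋙ EtCoh.HF X q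

variable {V T : Scheme.{u}} (h : V ⟶ T) [PreservesFiniteLimits (EtCoh.pull h)]

/-- pullback on cohomology with constant coefficients -/
noncomputable def tau (q : ℕ) : cstH T q ⟶ cstH V q where
  app M := AddCommGrpCat.ofHom ((AddMonoidHom.mk'
    (fun x : EtCoh.H V ((EtCoh.pull h).obj ((constantSheaf T.smallEtaleTopology AddCommGrpCat.{u + 1}).obj M)) q =>
      x.comp (Ext.mk₀ ((EtCore.pullConstIso h).hom.app M)) (add_zero q)) fun _ _ => Ext.add_comp _ _ _ _).comp
    (EtCore.Hpull h _ q))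
  naturality M N g := by
    ext x
    show (EtCore.Hpull h _ q (x.comp (Ext.mk₀ ((constantSheaf _ _).map g)) (add_zero q))).comp
        (Ext.mk₀ ((EtCore.pullConstIso h).hom.app N)) (add_zero q) =
      ((EtCore.Hpull h _ q x).comp (Ext.mk₀ ((EtCore.pullConstIso h).hom.app M)) (add_zero q)).comp
        (Ext.mk₀ ((constantSheaf _ _).map g)) (add_zero q)
    rw [EtDerLib.Hpull_natural, Ext.comp_assoc_of_second_deg_zero, Ext.comp_assoc_of_second_deg_zero,
      Ext.mk₀_comp_mk₀, Ext.mk₀_comp_mk₀]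
    exact congrArg (fun t => (EtCore.Hpull h _ q x).comp (Ext.mk₀ t) (add_zero q))
      ((EtCore.pullConstIso h).hom.naturality g)

/-- the class of a morphism of constant groups -/
noncomputable def eCls (X : Scheme.{u}) (A : AddCommGrpCat.{u + 1}) (g : AddCommGrpCat.of (ULift.{u + 1} ℤ) ⟶ A) :
    (cstH X 0).obj A :=
  Ext.mk₀ ((constantSheaf X.smallEtaleTopology AddCommGrpCat.{u + 1}).map g)

theorem tau_eCls (A : AddCommGrpCat.{u + 1}) (g : AddCommGrpCat.of (ULift.{u + 1} ℤ) ⟶ A) :
    (tau h 0).app A (eCls T A g) = eCls V A g := by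
  show (EtCore.Hpull h _ 0 (Ext.mk₀ _)).comp (Ext.mk₀ _) (add_zero 0) = Ext.mk₀ _
  rw [EtMVLib.Hpull_apply, Ext.mapExactFunctor_mk₀, Ext.mk₀_comp_mk₀, Ext.mk₀_comp_mk₀]
  refine congrArg Ext.mk₀ ?_
  refine (Category.assoc _ _ _).trans ?_
  refine (congrArg (_ ≫ ·) ((EtCore.pullConstIso h).hom.naturality g)).trans ?_
  exact (Category.assoc _ _ _).symm.trans
    ((congrArg (· ≫ _) ((EtCore.pullConstIso h).inv_hom_id_app (AddCommGrpCat.of (ULift.{u + 1} ℤ)))).trans
      (Category.id_comp _))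

theorem eCls_injective (X : Scheme.{u}) [Nonempty X] (A : AddCommGrpCat.{u + 1}) :
    Function.Injective (eCls X A) := by
  intro g g' e
  have e' := (Ext.mk₀_bijective _ _).1 e
  obtain ⟨Ω, _, _, ξ, u, -⟩ := exists_algClosed_point (EtCoh.top X) (Classical.arbitrary X)
  have nat : ∀ (g'' : AddCommGrpCat.of (ULift.{u + 1} ℤ) ⟶ A) (m : AddCommGrpCat.of (ULift.{u + 1} ℤ)),
      ((constantSheaf X.smallEtaleTopology AddCommGrpCat.{u + 1}).map g'').hom.app (op (EtCoh.top X))
        ((toSheafify X.smallEtaleTopology ((Functor.const X.Etaleᵒᵖ).obj (AddCommGrpCat.of (ULift.{u + 1} ℤ)))).app (op (EtCoh.top X)) m) =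
      (toSheafify X.smallEtaleTopology ((Functor.const _).obj A)).app (op (EtCoh.top X)) (g'' m) := fun g'' m =>
    (ConcreteCategory.congr_hom (congrArg (fun t => t.app (op (EtCoh.top X)))
      (toSheafify_naturality X.smallEtaleTopology ((Functor.const X.Etaleᵒᵖ).map g''))) m).symm
  ext m
  refine (toSheafify_const_germ_bijective ξ AddCommGrpCat.{u + 1} A (EtCoh.top X) u).1 ?_
  refine congrArg (fun z => (Scheme.pointSmallEtale ξ).toPresheafFiber (EtCoh.top X) u (sheafify X.smallEtaleTopology ((Functor.const X.Etaleᵒᵖ).obj A)) z) ?_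
  exact ((nat g m).symm.trans (congrArg (fun t => t.hom.app (op (EtCoh.top X))
    ((toSheafify X.smallEtaleTopology ((Functor.const X.Etaleᵒᵖ).obj (AddCommGrpCat.of (ULift.{u + 1} ℤ)))).app
      (op (EtCoh.top X)) m)) e')).trans (nat g' m)

variable {R : Type u} [CommRing R] [HenselianLocalRing R] [IsSepClosed (IsLocalRing.ResidueField R)]

theorem eCls_surjective (A : AddCommGrpCat.{u + 1}) :
    Function.Surjective (eCls (Spec (CommRingCat.of R)) A) := by
  intro x
  obtain ⟨a, rfl⟩ := (Ext.mk₀_bijective _ _).2 x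
  let adj := constantSheafAdj (Spec (CommRingCat.of R)).smallEtaleTopology AddCommGrpCat.{u + 1}
    (topIsTerminal (Spec (CommRingCat.of R)))
  have hunit : adj.unit.app A = (toSheafify _ ((Functor.const _).obj A)).app (op (EtCoh.top _)) := by
    simp [adj, constantSheafAdj]
  have : IsIso (adj.unit.app A) := by
    refine (ConcreteCategory.isIso_iff_bijective _).2 ?_
    rw [hunit]
    exact (Function.Bijective.of_comp_iff' (toPresheafFiber_top_bijective R
      (sheafify _ ((Functor.const _).obj A))) _).1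
      (toSheafify_const_germ_bijective (cpt R) AddCommGrpCat.{u + 1} A _ (cptTop R))
  refine ⟨adj.homEquiv _ _ a ≫ inv (adj.unit.app A), congrArg Ext.mk₀ ((adj.homEquiv _ _).injective ?_)⟩
  refine ((adj.homEquiv_unit _ _ _).trans (adj.unit.naturality _).symm).trans ?_
  exact (Category.assoc _ _ _).trans ((congrArg (_ ≫ ·) (IsIso.inv_hom_id _)).trans (Category.comp_id _))

theorem subsingleton_cstH_pos {q : ℕ} (hq : 0 < q) (A : AddCommGrpCat.{u + 1}) :
    Subsingleton ((cstH (Spec (CommRingCat.of R)) q).obj A) := by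
  have := projective_constZ R
  obtain ⟨q, rfl⟩ : ∃ q', q = q' + 1 := ⟨q - 1, by omega⟩
  exact subsingleton_of_forall_eq (0 : EtCoh.H _ _ (q + 1)) fun x => Ext.eq_zero_of_projective x

variable (g : V ⟶ Spec (CommRingCat.of R)) [PreservesFiniteLimits (EtCoh.pull g)]

theorem isIso_tau_of_point {d : ℕ} (hd : 0 < d) (q : ℕ)
    (hpos : 0 < q → Subsingleton (EtCoh.H V (EtCoh.const V (ZMod d)) q))
    (h0 : Nonempty (EtCoh.H V (EtCoh.const V (ZMod d)) 0 ≃+ ZMod d)) :
    IsIso ((tau g q).app (AddCommGrpCat.of (ULift.{u + 1} (ZMod d)))) := by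
  have : NeZero d := ⟨by omega⟩
  let A := AddCommGrpCat.of (ULift.{u + 1} (ZMod d))
  refine (ConcreteCategory.isIso_iff_bijective _).2 ?_
  obtain rfl | hq := Nat.eq_zero_or_pos q
  swap
  · have := subsingleton_cstH_pos (R := R) hq A
    have : Subsingleton ((cstH V q).obj A) := hpos hq
    exact ⟨fun a b _ => Subsingleton.elim a b, fun b => ⟨0, Subsingleton.elim _ _⟩⟩
  obtain ⟨E⟩ := h0
  have hfinV : Finite ((cstH V 0).obj A) := Finite.of_equiv _ E.toEquiv.symm
  by_cases h1 : d = 1
  · subst h1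
    have : Subsingleton (ZMod 1) := inferInstanceAs (Subsingleton (Fin 1))
    have hA : IsZero A := AddCommGrpCat.isZero_of_subsingleton A
    have := AddCommGrpCat.subsingleton_of_isZero ((cstH (Spec (CommRingCat.of R)) 0).map_isZero hA)
    have := AddCommGrpCat.subsingleton_of_isZero ((cstH V 0).map_isZero hA)
    exact ⟨fun a b _ => Subsingleton.elim a b, fun b => ⟨0, Subsingleton.elim _ _⟩⟩
  have hne : Nonempty V := by
    by_contra hc
    rw [not_nonempty_iff] at hc
    have hzero : ∀ (K : EtCoh.Ab V), IsZero K := fun K => by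
      refine (IsZero.iff_id_eq_zero K).2 ?_
      have : IsIso (0 : K ⟶ K) := (isIso_iff_stalks _).2 fun Ω _ _ ξ =>
        isEmptyElim (ξ.base (default : Spec (CommRingCat.of Ω)))
      exact (cancel_mono (0 : K ⟶ K)).1 (by simp)
    have : Subsingleton ((cstH V 0).obj A) :=
      AddCommGrpCat.subsingleton_of_isZero ((EtCoh.HF V 0).map_isZero (hzero _))
    have : Subsingleton (EtCoh.H V (EtCoh.const V (ZMod d)) 0) := ‹Subsingleton ((cstH V 0).obj A)›
    have : Subsingleton (ZMod d) := E.symm.toEquiv.subsingleton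
    have h2 := Nat.card_of_subsingleton (0 : ZMod d)
    rw [Nat.card_zmod] at h2
    exact h1 h2
  have hcomp : ∀ k, (tau g 0).app A (eCls (Spec (CommRingCat.of R)) A k) = eCls V A k := tau_eCls g A
  let homs : (AddCommGrpCat.of (ULift.{u + 1} ℤ) ⟶ A) ≃ ZMod d :=
    (AddCommGrpCat.uliftZMultiplesAddEquiv A).toEquiv.trans Equiv.ulift
  have : Finite (AddCommGrpCat.of (ULift.{u + 1} ℤ) ⟶ A) := Finite.of_equiv _ homs.symm
  have hV : Function.Bijective (eCls V A) :=
    (Nat.bijective_iff_injective_and_card _).2 ⟨eCls_injective V A, (Nat.card_congr homs).trans (Nat.card_congr E.toEquiv).symm⟩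
  refine ⟨fun a b hab => ?_, fun b => ?_⟩
  · obtain ⟨k, rfl⟩ := eCls_surjective (R := R) A a
    obtain ⟨k', rfl⟩ := eCls_surjective (R := R) A b
    rw [hcomp, hcomp] at hab
    rw [hV.1 hab]
  · obtain ⟨k, rfl⟩ := hV.2 b
    exact ⟨_, hcomp k⟩

/-- pullback is bijective on constant torsion groups prime to `Q` -/
theorem bijective_Hpull_const [CompactSpace V] [QuasiSeparatedSpace V] (Q : ℕ → Prop)
    (hQ : ∀ ⦃n d : ℕ⦄, Q n → d ∣ n → Q d) (hQ0 : ¬ Q 0)
    (hV : ∀ d, Q d → (∀ q, 0 < q → Subsingleton (EtCoh.H V (EtCoh.const V (ZMod d)) q)) ∧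
      Nonempty (EtCoh.H V (EtCoh.const V (ZMod d)) 0 ≃+ ZMod d))
    (M : AddCommGrpCat.{u + 1}) (hM : ∀ m : M, ∃ n, Q n ∧ n • m = 0) (q : ℕ) :
    Function.Bijective (EtCore.Hpull g
      ((constantSheaf (Spec (CommRingCat.of R)).smallEtaleTopology AddCommGrpCat.{u + 1}).obj M) q) := by
  have : IsFiltered (FinSub M) := inferInstance
  have hF : ∀ (W : Scheme.{u}) [CompactSpace W] [QuasiSeparatedSpace W],
      PreservesColimitsOfShape (FinSub M) (cstH W q) ∧ (cstH W q).Additive := fun W _ _ => by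
    have := EtLC12.QcqsAcyclic.preservesColimitsOfShape_HF W q (FinSub M)
    have : PreservesColimitsOfShape (FinSub M) (constantSheaf W.smallEtaleTopology AddCommGrpCat.{u + 1}) :=
      (EtCore.constAdj W).leftAdjoint_preservesColimits.preservesColimitsOfShape
    exact ⟨inferInstance, inferInstance⟩
  obtain ⟨_, _⟩ := hF (Spec (CommRingCat.of R))
  obtain ⟨_, _⟩ := hF V
  have h1 := isIso_app_of_torsion (tau g q) Q hQ (fun d hd =>
    isIso_tau_of_point g (Nat.pos_of_ne_zero fun h => hQ0 (h ▸ hd)) q ((hV d hd).1 q) (hV d hd).2) M hQ0 hM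
  have h2 := (ConcreteCategory.isIso_iff_bijective _).1 h1
  have : IsIso ((EtCoh.HF V q).map ((EtCore.pullConstIso g).hom.app M)) := inferInstance
  exact (Function.Bijective.of_comp_iff'
    (f := ⇑(ConcreteCategory.hom ((EtCoh.HF V q).map ((EtCore.pullConstIso g).hom.app M))))
    ((ConcreteCategory.isIso_iff_bijective _).1 this) _).1 h2

end Groth.Agent.EtRest69
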