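import Groth.Agent.EtRest69.VCTransfer
import Groth.Agent.S0642
import Groth.Agent.EtFound.PullStalk
import Mathlib.AlgebraicGeometry.Stalk
import Mathlib.AlgebraicGeometry.PullbackCarrier
import Mathlib.AlgebraicGeometry.ResidueField

/-!
# Local acyclicity of base changes
-/

universe u

open IsLocalRing TensorProduct CategoryTheory CategoryTheory.Limits AlgebraicGeometry

namespace Groth.Agent.EtRest69

set_option backward.isDefEq.respectTransparency.types false

/-- the cohomology of a point -/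
def PtCoh (n : ℕ) (R : CommRingCat.{u}) : Prop :=
  (∀ q : ℕ, 0 < q → Subsingleton (EtCoh.H (Spec R) (EtCoh.const (Spec R) (ZMod n)) q)) ∧
    Nonempty (EtCoh.H (Spec R) (EtCoh.const (Spec R) (ZMod n)) 0 ≃+ ZMod n)

theorem nonempty_H_const_equiv_of_iso {W U : Scheme.{u}} (i : W ⟶ U) [IsIso i] (M : Type) [AddCommGroup M] (q : ℕ) :
    Nonempty (EtCoh.H U (EtCoh.const U M) q ≃+ EtCoh.H W (EtCoh.const W M) q) := by
  have := EtFound.pull_preservesFiniteLimits i
  let E : EtCoh.H W ((EtCoh.pull i).obj (EtCoh.const U M)) q ≃+ EtCoh.H W (EtCoh.const W M) q :=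
    { toFun := fun x => x.comp (Abelian.Ext.mk₀ (EtCore.pullConst i M).hom) (add_zero q)
      invFun := fun x => x.comp (Abelian.Ext.mk₀ (EtCore.pullConst i M).inv) (add_zero q)
      left_inv := fun x => by simp
      right_inv := fun x => by simp
      map_add' := fun _ _ => Abelian.Ext.add_comp _ _ _ _ }
  exact ⟨(AddEquiv.ofBijective _ (S0642.result i (EtCoh.const U M) q)).trans E⟩

theorem ptCoh_of_iso (n : ℕ) {R R' : CommRingCat.{u}} (e : R ≅ R') (h : PtCoh n R) : PtCoh n R' := by
  refine ⟨fun q hq => ?_, ?_⟩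
  · have := h.1 q hq
    obtain ⟨E⟩ := nonempty_H_const_equiv_of_iso (Spec.map e.hom) (ZMod n) q
    exact E.symm.toEquiv.subsingleton
  · obtain ⟨E⟩ := nonempty_H_const_equiv_of_iso (Spec.map e.hom) (ZMod n) 0
    exact ⟨E.symm.trans h.2.some⟩

theorem isLocalHom_toRingHom {R R' : Type u} [CommRing R] [CommRing R'] (e : R ≃+* R') :
    IsLocalHom e.toRingHom :=
  ⟨fun a ha => by simpa using (ha.map e.symm.toRingHom)⟩

/-- strict henselizations only depend on the local ring up to isomorphism -/
theorem isStrictHenselization_of_ringEquiv {R R' : Type u} [CommRing R] [IsLocalRing R] [CommRing R']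
    [IsLocalRing R'] (e : R ≃+* R') (S : Type u) [CommRing S] [IsLocalRing S] [Algebra R S] [Algebra R' S]
    [IsLocalHom (algebraMap R S)] [IsLocalHom (algebraMap R' S)]
    (he : ∀ r, algebraMap R S r = algebraMap R' S (e r))
    [Hensel.IsStrictHenselization R' S] : Hensel.IsStrictHenselization R S where
  henselian := Hensel.IsStrictHenselization.henselian (R := R')
  isSepClosure := by
    obtain ⟨h1, h2⟩ := Hensel.IsStrictHenselization.isSepClosure (R := R') (S := S)
    refine ⟨h1, ?_⟩
    refine Algebra.IsSeparable.of_equiv_equiv (ResidueField.mapEquiv e).symm (RingEquiv.refl _) ?_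
    refine RingHom.ext fun z => ?_
    obtain ⟨z, rfl⟩ := residue_surjective z
    show algebraMap (ResidueField R) _ ((ResidueField.mapEquiv e).symm (residue R' z)) = algebraMap (ResidueField R') _ (residue R' z)
    rw [show (ResidueField.mapEquiv e).symm (residue R' z) = residue R (e.symm z) from rfl,
      ResidueField.algebraMap_residue, ResidueField.algebraMap_residue, he, e.apply_symm_apply]
  universal T _ _ f _ τ hτ := by
    have : IsLocalHom e.symm.toRingHom := isLocalHom_toRingHom e.symm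
    have hl : IsLocalHom (f.comp e.symm.toRingHom) := inferInstance
    obtain ⟨g, hg, hu⟩ := Hensel.IsStrictHenselization.universal (R := R') (S := S) T (f.comp e.symm.toRingHom) τ (by
      refine RingHom.ext fun z => ?_
      obtain ⟨z, rfl⟩ := residue_surjective z
      have := RingHom.congr_fun hτ (residue R (e.symm z))
      rw [RingHom.comp_apply, ResidueField.map_residue, ResidueField.map_residue, he, e.apply_symm_apply] at this
      rw [RingHom.comp_apply, ResidueField.map_residue, ResidueField.map_residue]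
      exact this)
    refine ⟨g, ⟨RingHom.ext fun r => ?_, hg.2⟩, fun g' hg' => hu g' ⟨RingHom.ext fun r => ?_, hg'.2⟩⟩
    · show g (algebraMap R S r) = f r
      rw [he]
      exact (RingHom.congr_fun hg.1 (e r)).trans (congrArg f (e.symm_apply_apply r))
    · show g' (algebraMap R' S r) = f (e.symm r)
      rw [← RingHom.congr_fun hg'.1 (e.symm r), RingHom.comp_apply, he, e.apply_symm_apply]

/-- local rings in affine charts -/
theorem exists_chart {X : Scheme.{u}} {R : CommRingCat.{u}} (ι : Spec R ⟶ X) [IsOpenImmersion ι]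
    (p : PrimeSpectrum R) (x : X) (hx : ι.base p = x) :
    ∃ e : Localization.AtPrime p.asIdeal ≃+* X.presheaf.stalk x,
      Spec.map (CommRingCat.ofHom (e.toRingHom.comp (algebraMap R (Localization.AtPrime p.asIdeal)))) ≫ ι =
        X.fromSpecStalk x := by
  subst hx
  let e₁ := IsLocalization.algEquiv p.asIdeal.primeCompl (Localization.AtPrime p.asIdeal)
    ((Spec.structureSheaf R).presheaf.stalk p)
  let e₂ : X.presheaf.stalk (ι.base p) ≅ (Spec R).presheaf.stalk p := asIso (ι.stalkMap p)
  refine ⟨e₁.toRingEquiv.trans e₂.symm.commRingCatIsoToRingEquiv, ?_⟩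
  have h : CommRingCat.ofHom ((e₁.toRingEquiv.trans e₂.symm.commRingCatIsoToRingEquiv).toRingHom.comp
      (algebraMap R (Localization.AtPrime p.asIdeal))) = StructureSheaf.toStalk R p ≫ e₂.inv := by
    ext r
    show e₂.inv (e₁ (algebraMap R _ r)) = e₂.inv (StructureSheaf.toStalk R p r)
    exact congrArg e₂.inv (e₁.commutes r)
  rw [h, Spec.map_comp, Category.assoc, ← Spec.fromSpecStalk_eq']
  refine (cancel_epi (Spec.map e₂.hom)).1 ?_
  have H : Spec.map e₂.hom ≫ Spec.map e₂.inv = 𝟙 _ :=
    (Spec.map_comp _ _).symm.trans ((congrArg Spec.map e₂.inv_hom_id).trans (Spec.map_id _))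
  exact ((Category.assoc _ _ _).symm.trans ((congrArg (· ≫ _) H).trans (Category.id_comp _))).trans
    (Scheme.SpecMap_stalkMap_fromSpecStalk ι).symm

/-- charts are compatible with maps of stalks -/
theorem chart_naturality {X S : Scheme.{u}} (f : X ⟶ S) {R T : CommRingCat.{u}} (ι : Spec R ⟶ S) [Mono ι]
    (κ : Spec T ⟶ X) (φ : R ⟶ T) (w : κ ≫ f = Spec.map φ ≫ ι) (x : X)
    (α : R ⟶ S.presheaf.stalk (f.base x)) (hα : Spec.map α ≫ ι = S.fromSpecStalk (f.base x))
    (β : T ⟶ X.presheaf.stalk x) (hβ : Spec.map β ≫ κ = X.fromSpecStalk x) :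
    α ≫ f.stalkMap x = φ ≫ β := by
  apply Spec.map_injective
  rw [← cancel_mono ι, Spec.map_comp, Spec.map_comp, Category.assoc, Category.assoc, hα,
    Scheme.SpecMap_stalkMap_fromSpecStalk, ← w, ← Category.assoc, hβ]

/-- base changes of locally acyclic morphisms along morphisms which are locally unions of quasi-finite ones -/
theorem isLocallyAcyclic_pullback_snd {X S S' : Scheme.{u}} (f : X ⟶ S) (g : S' ⟶ S)
    (hg : ∀ (s' : S') (A : CommRingCat.{u}) (ιA : Spec A ⟶ S) [IsOpenImmersion ιA],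
      g.base s' ∈ Set.range ιA.base → ∃ (B : CommRingCat.{u}) (φ : A ⟶ B) (ιB : Spec B ⟶ S') (_ : IsOpenImmersion ιB),
        ιB ≫ g = Spec.map φ ≫ ιA ∧ s' ∈ Set.range ιB.base ∧
          (letI := φ.hom.toAlgebra; ∀ t : Finset B, ∃ B₀ : Subalgebra A B, (↑t : Set B) ⊆ ↑B₀ ∧
            Algebra.FiniteType A ↥B₀ ∧ Algebra.QuasiFinite A ↥B₀))
    (hf : EtRest.IsLocallyAcyclic f) : EtRest.IsLocallyAcyclic (pullback.snd f g) := by
  intro x' RS' RX' _ _ _ _ _ _ _ _ _ _ _ _ hcompat Ω _ _ _ n hn
  let x : X := (pullback.fst f g).base x'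
  let s' : S' := (pullback.snd f g).base x'
  have hs : f.base x = g.base s' := by
    show f.base ((pullback.fst f g).base x') = g.base ((pullback.snd f g).base x')
    rw [← Scheme.Hom.comp_apply, ← Scheme.Hom.comp_apply, pullback.condition]
  obtain ⟨A, ιA, hιA, ⟨a₀, ha⟩, -⟩ := Scheme.exists_affine_mem_range_and_range_subset
    (X := S) (x := f.base x) (U := ⊤) trivial
  obtain ⟨C, ιC, hιC, ⟨c₀, hc⟩, hCsub⟩ := Scheme.exists_affine_mem_range_and_range_subset
    (X := X) (x := x) (U := f ⁻¹ᵁ ιA.opensRange) ⟨a₀, ha⟩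
  obtain ⟨B, φB, ιB, hιB, hgB, ⟨b₀, hb⟩, hB⟩ := hg s' A ιA ⟨a₀, ha.trans hs⟩
  obtain ⟨φC, hφC⟩ := Spec.map_surjective (IsOpenImmersion.lift ιA (ιC ≫ f) (by
    rintro _ ⟨c, rfl⟩
    exact hCsub ⟨c, rfl⟩))
  have hfC : ιC ≫ f = Spec.map φC ≫ ιA := by rw [hφC, IsOpenImmersion.lift_fac]
  let : Algebra A B := φB.hom.toAlgebra
  let : Algebra A C := φC.hom.toAlgebra
  let T : CommRingCat.{u} := CommRingCat.of ((B : Type u) ⊗[A] (C : Type u))
  let iB : B ⟶ T := CommRingCat.ofHom Algebra.TensorProduct.includeLeftRingHom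
  let iC : C ⟶ T := CommRingCat.ofHom (Algebra.TensorProduct.includeRight : (C : Type u) →ₐ[A] B ⊗[A] C).toRingHom
  let ιD : Spec T ⟶ pullback f g := (pullbackSpecIso A B C).inv ≫
    pullback.map (Spec.map (CommRingCat.ofHom (algebraMap A B))) (Spec.map (CommRingCat.ofHom (algebraMap A C)))
      g f ιB ιC ιA hgB.symm hfC.symm ≫ (pullbackSymmetry g f).hom
  have hιD : IsOpenImmersion ιD := inferInstance
  have hDfst : ιD ≫ pullback.fst f g = Spec.map iC ≫ ιC := by
    simp only [ιD, Category.assoc, pullbackSymmetry_hom_comp_fst, pullback.lift_snd]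
    rw [pullbackSpecIso_inv_snd_assoc]
    rfl
  have hDsnd : ιD ≫ pullback.snd f g = Spec.map iB ≫ ιB := by
    simp only [ιD, Category.assoc, pullbackSymmetry_hom_comp_snd, pullback.lift_fst]
    rw [pullbackSpecIso_inv_fst_assoc]
  obtain ⟨d₀, hd⟩ : ∃ d₀, ιD.base d₀ = x' := by
    have hy : (pullbackSymmetry f g).hom.base x' ∈ Set.range (pullback.map
        (Spec.map (CommRingCat.ofHom (algebraMap A B))) (Spec.map (CommRingCat.ofHom (algebraMap A C)))
        g f ιB ιC ιA hgB.symm hfC.symm).base := by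
      rw [Scheme.Pullback.range_map]
      refine ⟨⟨b₀, ?_⟩, ⟨c₀, ?_⟩⟩
      · rw [← Scheme.Hom.comp_apply, pullbackSymmetry_hom_comp_fst]; exact hb
      · rw [← Scheme.Hom.comp_apply, pullbackSymmetry_hom_comp_snd]; exact hc
    obtain ⟨z, hz⟩ := hy
    refine ⟨(pullbackSpecIso A B C).hom.base z, ?_⟩
    rw [← Scheme.Hom.comp_apply]
    simp only [ιD, Iso.hom_inv_id_assoc]
    rw [Scheme.Hom.comp_apply, hz, ← Scheme.Hom.comp_apply, show (pullbackSymmetry f g).hom ≫ (pullbackSymmetry g f).hom = 𝟙 _ by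
      apply pullback.hom_ext <;> simp]
    rfl
  have hbd : (Spec.map iB).base d₀ = b₀ := ιB.isOpenEmbedding.injective (by
    rw [← Scheme.Hom.comp_apply, ← hDsnd, Scheme.Hom.comp_apply, hd, hb])
  have hcd : (Spec.map iC).base d₀ = c₀ := ιC.isOpenEmbedding.injective (by
    rw [← Scheme.Hom.comp_apply, ← hDfst, Scheme.Hom.comp_apply, hd, hc])
  have hab : (Spec.map φB).base b₀ = a₀ := ιA.isOpenEmbedding.injective (by
    rw [← Scheme.Hom.comp_apply, ← hgB, Scheme.Hom.comp_apply, hb, ha, hs])
  have hac : (Spec.map φC).base c₀ = a₀ := ιA.isOpenEmbedding.injective (by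
    rw [← Scheme.Hom.comp_apply, ← hfC, Scheme.Hom.comp_apply, hc, ha])
  have : b₀.asIdeal.LiesOver a₀.asIdeal := ⟨congrArg PrimeSpectrum.asIdeal hab.symm⟩
  have : c₀.asIdeal.LiesOver a₀.asIdeal := ⟨congrArg PrimeSpectrum.asIdeal hac.symm⟩
  let pD : Ideal ((B : Type u) ⊗[A] (C : Type u)) := d₀.asIdeal
  have : pD.IsPrime := d₀.isPrime
  have : pD.LiesOver b₀.asIdeal := ⟨congrArg PrimeSpectrum.asIdeal hbd.symm⟩
  have hDC : pD.comap (Algebra.TensorProduct.includeRight : (C : Type u) →ₐ[A] B ⊗[A] C).toRingHom = c₀.asIdeal :=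
    congrArg PrimeSpectrum.asIdeal hcd
  obtain ⟨eA, heA⟩ := exists_chart ιA a₀ (f.base x) ha
  obtain ⟨eB, heB⟩ := exists_chart ιB b₀ s' hb
  obtain ⟨eC, heC⟩ := exists_chart ιC c₀ x hc
  obtain ⟨eD, heD⟩ := exists_chart ιD d₀ x' hd
  let : Algebra (Localization.AtPrime b₀.asIdeal) RS' :=
    ((algebraMap (S'.presheaf.stalk s') RS').comp eB.toRingHom).toAlgebra
  let : Algebra (Localization.AtPrime pD) RX' :=
    ((algebraMap ((pullback f g).presheaf.stalk x') RX').comp eD.toRingHom).toAlgebra
  have : IsLocalHom eB.toRingHom := isLocalHom_toRingHom eB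
  have : IsLocalHom (algebraMap (Localization.AtPrime b₀.asIdeal) RS') :=
    inferInstanceAs (IsLocalHom ((algebraMap (S'.presheaf.stalk s') RS').comp eB.toRingHom))
  have : IsLocalHom eD.toRingHom := isLocalHom_toRingHom eD
  have : IsLocalHom (algebraMap (Localization.AtPrime pD) RX') :=
    inferInstanceAs (IsLocalHom ((algebraMap ((pullback f g).presheaf.stalk x') RX').comp eD.toRingHom))
  have := isStrictHenselization_of_ringEquiv eB RS' (fun _ => rfl)
  have := isStrictHenselization_of_ringEquiv eD RX' (fun _ => rfl)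
  have hnx : ((n : X.residueField x)) ≠ 0 := fun h => hn (by
    rw [← map_natCast ((pullback.fst f g).residueFieldMap x').hom n, h, map_zero])
  refine vc_transfer A B C a₀.asIdeal b₀.asIdeal c₀.asIdeal pD hDC hB RS' RX' (fun b => ?_) (PtCoh n)
    (ptCoh_of_iso n) Ω ?_
  · refine Eq.trans (RingHom.congr_fun hcompat (eB (algebraMap B _ b))) (congrArg (algebraMap _ RX') ?_)
    exact ConcreteCategory.congr_hom
      (chart_naturality (pullback.snd f g) ιB ιD iB hDsnd x' _ heB _ heD) b
  · intro Ash _ _ _ _ _ Csh _ _ _ _ _ _ _ hAC _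
    let : Algebra (S.presheaf.stalk (f.base x)) Ash :=
      ((algebraMap (Localization.AtPrime a₀.asIdeal) Ash).comp eA.symm.toRingHom).toAlgebra
    let : Algebra (X.presheaf.stalk x) Csh :=
      ((algebraMap (Localization.AtPrime c₀.asIdeal) Csh).comp eC.symm.toRingHom).toAlgebra
    have : IsLocalHom eA.symm.toRingHom := isLocalHom_toRingHom eA.symm
    have : IsLocalHom eC.symm.toRingHom := isLocalHom_toRingHom eC.symm
    have : IsLocalHom (algebraMap (S.presheaf.stalk (f.base x)) Ash) :=
      inferInstanceAs (IsLocalHom ((algebraMap (Localization.AtPrime a₀.asIdeal) Ash).comp eA.symm.toRingHom))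
    have : IsLocalHom (algebraMap (X.presheaf.stalk x) Csh) :=
      inferInstanceAs (IsLocalHom ((algebraMap (Localization.AtPrime c₀.asIdeal) Csh).comp eC.symm.toRingHom))
    have := isStrictHenselization_of_ringEquiv eA.symm Ash (fun _ => rfl)
    have := isStrictHenselization_of_ringEquiv eC.symm Csh (fun _ => rfl)
    have key := chart_naturality f ιA ιC φC hfC x _ heA _ heC
    have h2 : ((algebraMap Ash Csh).comp (algebraMap (S.presheaf.stalk (f.base x)) Ash)).comp eA.toRingHom =
        ((algebraMap (X.presheaf.stalk x) Csh).comp (f.stalkMap x).hom).comp eA.toRingHom :=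
      IsLocalization.ringHom_ext a₀.asIdeal.primeCompl (RingHom.ext fun a => by
        show algebraMap Ash Csh (algebraMap (Localization.AtPrime a₀.asIdeal) Ash (eA.symm (eA _))) =
          algebraMap (Localization.AtPrime c₀.asIdeal) Csh (eC.symm ((f.stalkMap x).hom (eA _)))
        rw [eA.symm_apply_apply, hAC,
          show (f.stalkMap x).hom (eA (algebraMap A _ a)) = eC (algebraMap C _ (φC.hom a)) from
            ConcreteCategory.congr_hom key a, eC.symm_apply_apply]
        rfl)
    refine hf x Ash Csh (RingHom.ext fun r => ?_) Ω n hnx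
    have := RingHom.congr_fun h2 (eA.symm r)
    simpa only [RingHom.comp_apply, show eA.toRingHom (eA.symm r) = r from eA.apply_symm_apply r] using this

end Groth.Agent.EtRest69
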