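import Mathlib.Algebra.Homology.DerivedCategory.TStructure
import Mathlib.CategoryTheory.Triangulated.TStructure.TruncLEGT
import Mathlib.Algebra.Homology.DerivedCategory.HomologySequence
import Mathlib.Algebra.Homology.DerivedCategory.FullyFaithful
import Mathlib.CategoryTheory.Generator.Basic
import Groth.Agent.Der55.Products

/-!
# Maps out of acyclic test objects into unbounded complexes

If all cohomology objects of `Q` are acyclic for a separating family of test objects, then `Q` is the
derived limit of its truncations and maps into `Q` from acyclic test objects are computed by truncations.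
-/

universe w v u t

open CategoryTheory CategoryTheory.Limits CategoryTheory.Pretriangulated DerivedCategory

namespace Groth.Agent.EtRest69

variable {A : Type u} [Category.{v} A] [Abelian A] [HasDerivedCategory.{w} A]

/-- `F` has no higher extensions by `P` -/
def AcycFor (P F : A) : Prop :=
  ∀ (i c : ℤ), c < i → ∀ f : (singleFunctor A i).obj P ⟶ (singleFunctor A c).obj F, f = 0

/-- vanishing of maps from a test object -/
def NoHom (P : A) (i : ℤ) (X : DerivedCategory A) : Prop :=
  ∀ f : (singleFunctor A i).obj P ⟶ X, f = 0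

lemma noHom_of_iso {P : A} {i : ℤ} {X Y : DerivedCategory A} (e : X ≅ Y) (h : NoHom P i X) : NoHom P i Y :=
  fun f => (cancel_mono e.inv).1 (by rw [h (f ≫ e.inv), zero_comp])

lemma noHom_of_isGE {P : A} {i a : ℤ} {X : DerivedCategory A} [X.IsGE a] (h : i < a) : NoHom P i X :=
  fun f => TStructure.t.zero f i a h

/-- maps into shifts -/
lemma noHom_shift {P : A} {i k j : ℤ} {X : DerivedCategory A} (h : NoHom P j X) (hk : i + k = j) :
    NoHom P i (X⟦k⟧) := fun f => by
  let e : (singleFunctor A i).obj P ≅ ((singleFunctor A j).obj P)⟦k⟧ :=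
    (((singleFunctors A).shiftIso k i j (by omega)).app P).symm
  obtain ⟨g, hg⟩ := (shiftFunctor (DerivedCategory A) k).map_surjective (e.inv ≫ f)
  rw [h g, Functor.map_zero] at hg
  exact (cancel_epi e.inv).1 (by rw [← hg, comp_zero])

/-- the fibre of a step of the truncation tower is concentrated in one degree -/
lemma exists_fibre (Q : DerivedCategory A) (c : ℤ) :
    ∃ (W : DerivedCategory A) (u : W ⟶ (TStructure.t.truncGE c).obj Q)
      (δ : (TStructure.t.truncGE (c + 1)).obj Q ⟶ W⟦(1 : ℤ)⟧),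
      Triangle.mk u ((TStructure.t.natTransTruncGEOfLE c (c + 1) (by omega)).app Q) δ ∈ distTriang _ ∧
      Nonempty (W ≅ (singleFunctor A c).obj ((homologyFunctor A c).obj Q)) := by
  let s := (TStructure.t.natTransTruncGEOfLE c (c + 1) (by omega)).app Q
  obtain ⟨W, u, δ, hT⟩ := distinguished_cocone_triangle₁ s
  have hπ : ∀ a j : ℤ, a ≤ j → IsIso ((homologyFunctor A j).map ((TStructure.t.truncGEπ a).app Q)) := fun a j h => by
    have hT' := TStructure.t.triangleLTGE_distinguished a Q
    have : DerivedCategory.IsLE ((TStructure.t.triangleLTGE a).obj Q).obj₁ (a - 1) :=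
      inferInstanceAs (TStructure.t.IsLE ((TStructure.t.truncLT a).obj Q) (a - 1))
    have hm : Mono ((homologyFunctor A j).map ((TStructure.t.triangleLTGE a).obj Q).mor₂) :=
      (HomologySequence.mono_homologyMap_mor₂_iff _ hT' j).2
        ((isZero_of_isLE _ (a - 1) j (by omega)).eq_of_src _ _)
    have he : Epi ((homologyFunctor A j).map ((TStructure.t.triangleLTGE a).obj Q).mor₂) :=
      (HomologySequence.epi_homologyMap_mor₂_iff _ hT' j (j + 1) rfl).2
        ((isZero_of_isLE _ (a - 1) (j + 1) (by omega)).eq_of_tgt _ _)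
    exact @isIso_of_mono_of_epi _ _ _ _ _ _ hm he
  have : DerivedCategory.IsGE ((TStructure.t.truncGE c).obj Q) c :=
    inferInstanceAs (TStructure.t.IsGE ((TStructure.t.truncGE c).obj Q) c)
  have : DerivedCategory.IsGE ((TStructure.t.truncGE (c + 1)).obj Q) (c + 1) :=
    inferInstanceAs (TStructure.t.IsGE ((TStructure.t.truncGE (c + 1)).obj Q) (c + 1))
  have hs : ∀ j, c + 1 ≤ j → IsIso ((homologyFunctor A j).map s) := fun j hj => by
    have h1 := hπ c j (by omega)
    have h2 : IsIso ((homologyFunctor A j).map ((TStructure.t.truncGEπ c).app Q) ≫ (homologyFunctor A j).map s) := by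
      rw [← Functor.map_comp, TStructure.t.π_natTransTruncGEOfLE_app]
      exact hπ (c + 1) j hj
    exact IsIso.of_isIso_comp_left ((homologyFunctor A j).map ((TStructure.t.truncGEπ c).app Q)) _
  have hz : ∀ j, j ≤ c → IsZero ((homologyFunctor A j).obj ((TStructure.t.truncGE (c + 1)).obj Q)) := fun j hj =>
    isZero_of_isGE _ (c + 1) j (by omega)
  have hW : ∀ j, j ≠ c → IsZero ((homologyFunctor A j).obj W) := fun j hj => by
    have h0 : (homologyFunctor A j).map u = 0 := by
      rcases lt_or_gt_of_ne hj with h | h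
      · exact (isZero_of_isGE _ c j h).eq_of_tgt _ _
      · have := hs j (by omega)
        rw [← cancel_mono ((homologyFunctor A j).map s), zero_comp, ← Functor.map_comp]
        exact (congrArg _ (comp_distTriang_mor_zero₁₂ _ hT)).trans (Functor.map_zero _ _ _)
    have hδ : HomologySequence.δ (Triangle.mk u s δ) (j - 1) j (by omega) = 0 := by
      rcases lt_or_gt_of_ne hj with h | h
      · exact (hz (j - 1) (by omega)).eq_of_src _ _
      · rcases eq_or_lt_of_le (show c + 1 ≤ j by omega) with h1 | h1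
        · exact (hz (j - 1) (by omega)).eq_of_src _ _
        · have := hs (j - 1) (by omega)
          exact (HomologySequence.epi_homologyMap_mor₂_iff _ hT (j - 1) j (by omega)).1 (show Epi ((homologyFunctor A (j - 1)).map s) from inferInstance)
    have hm : Mono ((homologyFunctor A j).map (Triangle.mk u s δ).mor₁) :=
      (HomologySequence.mono_homologyMap_mor₁_iff _ hT (j - 1) j (by omega)).2 hδ
    exact @IsZero.of_mono_eq_zero _ _ _ _ _ _ hm h0
  have hiso : IsIso ((homologyFunctor A c).map u) := by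
    have hm : Mono ((homologyFunctor A c).map (Triangle.mk u s δ).mor₁) :=
      (HomologySequence.mono_homologyMap_mor₁_iff _ hT (c - 1) c (by omega)).2
        ((hz (c - 1) (by omega)).eq_of_src _ _)
    have he : Epi ((homologyFunctor A c).map (Triangle.mk u s δ).mor₁) :=
      (HomologySequence.epi_homologyMap_mor₁_iff _ hT c).2 ((hz c le_rfl).eq_of_tgt _ _)
    exact @isIso_of_mono_of_epi _ _ _ _ _ _ hm he
  have : W.IsGE c := (DerivedCategory.isGE_iff W c).2 fun j hj => hW j (by omega)
  have : W.IsLE c := (DerivedCategory.isLE_iff W c).2 fun j hj => hW j (by omega)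
  obtain ⟨Y, ⟨eY⟩⟩ := exists_iso_singleFunctor_obj_of_isGE_of_isLE W c
  have := hπ c c le_rfl
  refine ⟨W, u, δ, hT, ⟨eY ≪≫ (singleFunctor A c).mapIso
    (((singleFunctorCompHomologyFunctorIso A c).app Y).symm ≪≫ (homologyFunctor A c).mapIso eY.symm ≪≫
      asIso ((homologyFunctor A c).map u) ≪≫ (asIso ((homologyFunctor A c).map ((TStructure.t.truncGEπ c).app Q))).symm)⟩⟩

variable (Q : DerivedCategory A)

/-- steps of the tower above the test degree do not change maps from test objects -/
lemma bijective_step {P : A} (hQ : ∀ j, AcycFor P ((homologyFunctor A j).obj Q)) (c i : ℤ) (h : c < i) :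
    Function.Bijective fun x : (singleFunctor A i).obj P ⟶ (TStructure.t.truncGE c).obj Q =>
      x ≫ (TStructure.t.natTransTruncGEOfLE c (c + 1) (by omega)).app Q := by
  obtain ⟨W, u, δ, hT, ⟨eW⟩⟩ := exists_fibre Q c
  have h0 : ∀ j, c < j → NoHom P j W := fun j hj => noHom_of_iso eW.symm fun f => hQ c j c hj f
  refine ⟨(injective_iff_map_eq_zero (AddMonoidHom.mk' (fun x : (singleFunctor A i).obj P ⟶
    (TStructure.t.truncGE c).obj Q => x ≫ (TStructure.t.natTransTruncGEOfLE c (c + 1) (by omega)).app Q)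
      fun _ _ => Preadditive.add_comp _ _ _ _ _ _)).2 fun x hx => ?_, fun y => ?_⟩
  · obtain ⟨g, hg⟩ := Triangle.coyoneda_exact₂ _ hT x hx
    rw [hg, h0 i h g]
    exact zero_comp
  · obtain ⟨g, hg⟩ := Triangle.coyoneda_exact₃ _ hT y (noHom_shift (h0 (i + 1) (by omega)) rfl _)
    exact ⟨g, hg.symm⟩

section Tower

variable (a : ℤ)

/-- the tower of truncations -/
noncomputable abbrev tw (n : ℕ) : DerivedCategory A := (TStructure.t.truncGE (a - n)).obj Q

/-- the transition maps -/
noncomputable def tr (n : ℕ) : tw Q a (n + 1) ⟶ tw Q a n :=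
  (TStructure.t.natTransTruncGEOfLE (a - (n + 1 : ℕ)) (a - n) (by omega)).app Q

lemma bijective_tr {P : A} (hQ : ∀ j, AcycFor P ((homologyFunctor A j).obj Q)) (n : ℕ) (i : ℤ) (h : a - n ≤ i) :
    Function.Bijective fun x : (singleFunctor A i).obj P ⟶ tw Q a (n + 1) => x ≫ tr Q a n := by
  obtain ⟨c, hc⟩ : ∃ c : ℤ, a - (n + 1 : ℕ) = c := ⟨_, rfl⟩
  have key : ∀ (d : ℤ) (hd : c ≤ d), d = c + 1 → Function.Bijective
      fun x : (singleFunctor A i).obj P ⟶ (TStructure.t.truncGE c).obj Q =>
        x ≫ (TStructure.t.natTransTruncGEOfLE c d hd).app Q := fun d hd e => by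
    subst e
    exact bijective_step Q hQ c i (by omega)
  subst hc
  exact key (a - n) (by omega) (by omega)

variable [HasProduct (fun n => tw Q a n)]

/-- one minus the shift -/
noncomputable def oneSubShift : ∏ᶜ (fun n => tw Q a n) ⟶ ∏ᶜ (fun n => tw Q a n) :=
  Pi.lift fun n => Pi.π _ n - Pi.π _ (n + 1) ≫ tr Q a n

lemma comp_oneSubShift_eq_zero {T : DerivedCategory A} (x : ∀ n, T ⟶ tw Q a n)
    (hx : ∀ n, x (n + 1) ≫ tr Q a n = x n) : Pi.lift x ≫ oneSubShift Q a = 0 :=
  Pi.hom_ext _ _ fun n => by simp [oneSubShift, hx]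

lemma compat_of_comp_eq_zero {T : DerivedCategory A} (y : T ⟶ ∏ᶜ (fun n => tw Q a n))
    (hy : y ≫ oneSubShift Q a = 0) (n : ℕ) : (y ≫ Pi.π _ (n + 1)) ≫ tr Q a n = y ≫ Pi.π _ n := by
  have := hy =≫ Pi.π _ n
  simp only [oneSubShift, Category.assoc, Pi.lift_π, Preadditive.comp_sub, zero_comp, sub_eq_zero] at this
  rw [Category.assoc, this]

variable {P : A} (hQ : ∀ j, AcycFor P ((homologyFunctor A j).obj Q))

include hQ in
/-- one minus the shift is surjective on maps from test objects -/
lemma surjective_oneSubShift (N : ℕ) (i : ℤ) (h : a - N ≤ i) (v : (singleFunctor A i).obj P ⟶ ∏ᶜ (fun n => tw Q a n)) :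
    ∃ z, z ≫ oneSubShift Q a = v := by
  let g : ∀ n, N ≤ n → ((singleFunctor A i).obj P ⟶ tw Q a n) → ((singleFunctor A i).obj P ⟶ tw Q a (n + 1)) :=
    fun n hn w => ((bijective_tr Q a hQ n i (by omega)).2 (w - v ≫ Pi.π _ n)).choose
  have hg : ∀ n (hn : N ≤ n) w, g n hn w ≫ tr Q a n = w - v ≫ Pi.π _ n := fun n hn w =>
    ((bijective_tr Q a hQ n i (by omega)).2 (w - v ≫ Pi.π _ n)).choose_spec
  -- a solution above `N`
  let up : ∀ m : ℕ, (singleFunctor A i).obj P ⟶ tw Q a (N + m) := fun m =>
    Nat.rec (0 : (singleFunctor A i).obj P ⟶ tw Q a N) (fun m w => g (N + m) (by omega) w) m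
  suffices key : ∀ k, k ≤ N → ∃ z : ∀ m : ℕ, (singleFunctor A i).obj P ⟶ tw Q a (N - k + m),
      ∀ m, z m - z (m + 1) ≫ tr Q a (N - k + m) = v ≫ Pi.π _ (N - k + m) by
    obtain ⟨z, hz⟩ := key N le_rfl
    obtain ⟨z', hz'⟩ : ∃ z' : ∀ m : ℕ, (singleFunctor A i).obj P ⟶ tw Q a m,
        ∀ m, z' m - z' (m + 1) ≫ tr Q a m = v ≫ Pi.π _ m := by
      generalize hd : N - N = d at z hz
      obtain rfl : d = 0 := by omega
      refine ⟨fun m => z m ≫ eqToHom (by rw [Nat.zero_add]), fun m => ?_⟩
      have := hz m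
      have e : ∀ (p q : ℕ) (hpq : p = q), v ≫ Pi.π (fun n => tw Q a n) p ≫ eqToHom (by rw [hpq]) = v ≫ Pi.π _ q :=
        fun p q hpq => by subst hpq; simp
      have e' : ∀ (p q : ℕ) (hpq : p = q), tr Q a p ≫ eqToHom (by rw [hpq]) =
          eqToHom (by rw [hpq]) ≫ tr Q a q := fun p q hpq => by subst hpq; simp
      rw [← e (0 + m) m (Nat.zero_add m), ← Category.assoc, ← this, Preadditive.sub_comp, Category.assoc,
        Category.assoc, e' (0 + m) m (Nat.zero_add m)]
    exact ⟨Pi.lift z', Pi.hom_ext _ _ fun m => by simpa [oneSubShift] using hz' m⟩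
  intro k
  induction k with
  | zero =>
    intro _
    exact ⟨up, fun m => show up m - g (N + m) (Nat.le_add_right N m) (up m) ≫ tr Q a (N + m) = _ by rw [hg _ (Nat.le_add_right N m)]; abel⟩
  | succ k ih =>
    intro hk
    obtain ⟨z, hz⟩ := ih (by omega)
    obtain ⟨q, hq⟩ : ∃ q, N - (k + 1) = q := ⟨_, rfl⟩
    have hq' : N - k = q + 1 := by omega
    rw [hq]
    generalize hd : N - k = d at z hz
    obtain rfl : d = q + 1 := by omega
    have e' : ∀ (p p' : ℕ) (hpq : p = p'), tr Q a p ≫ eqToHom (by rw [hpq]) =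
        eqToHom (by rw [hpq]) ≫ tr Q a p' := fun p p' hpq => by subst hpq; simp
    have e : ∀ (p p' : ℕ) (hpq : p = p'), v ≫ Pi.π (fun n => tw Q a n) p ≫ eqToHom (by rw [hpq]) = v ≫ Pi.π _ p' :=
      fun p p' hpq => by subst hpq; simp
    refine ⟨fun m => match m with
      | 0 => v ≫ Pi.π _ q + z 0 ≫ tr Q a q
      | m + 1 => z m ≫ eqToHom (by rw [show q + 1 + m = q + (m + 1) by omega]), fun m => ?_⟩
    rcases m with _ | m
    · show (v ≫ Pi.π _ q + z 0 ≫ tr Q a q) - (z 0 ≫ 𝟙 _) ≫ tr Q a q = v ≫ Pi.π _ q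
      rw [Category.comp_id]
      abel
    · show (z m ≫ eqToHom _) - (z (m + 1) ≫ eqToHom _) ≫ tr Q a (q + (m + 1)) = v ≫ Pi.π _ (q + (m + 1))
      rw [← e (q + 1 + m) (q + (m + 1)) (by omega), ← Category.assoc, ← hz m, Preadditive.sub_comp, Category.assoc,
        Category.assoc, e' (q + 1 + m) (q + (m + 1)) (by omega)]

omit [HasProduct (fun n => tw Q a n)] in
/-- descending a map along the tower -/
lemma exists_compat (hQ : ∀ j, AcycFor P ((homologyFunctor A j).obj Q)) (n : ℕ) (i : ℤ) (h : a - n ≤ i)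
    (x : (singleFunctor A i).obj P ⟶ tw Q a n) :
    ∃ y : ∀ m, (singleFunctor A i).obj P ⟶ tw Q a m, (∀ m, y (m + 1) ≫ tr Q a m = y m) ∧ y n = x := by
  induction n with
  | zero =>
    let y : ∀ m, (singleFunctor A i).obj P ⟶ tw Q a m := fun m => Nat.rec x
      (fun m w => ((bijective_tr Q a hQ m i (by omega)).2 w).choose) m
    exact ⟨y, fun m => ((bijective_tr Q a hQ m i (by omega)).2 (y m)).choose_spec, rfl⟩
  | succ n ih =>
    by_cases hn : a - (n : ℤ) ≤ i
    · obtain ⟨y, hy, hyn⟩ := ih hn (x ≫ tr Q a n)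
      exact ⟨y, hy, (bijective_tr Q a hQ n i hn).1 ((hy n).trans hyn)⟩
    · let y : ∀ m, (singleFunctor A i).obj P ⟶ tw Q a (n + 1 + m) := fun m => Nat.rec x
        (fun m w => ((bijective_tr Q a hQ (n + 1 + m) i (by push_cast at h ⊢; omega)).2 w).choose) m
      have hy : ∀ m, y (m + 1) ≫ tr Q a (n + 1 + m) = y m := fun m =>
        ((bijective_tr Q a hQ (n + 1 + m) i (by push_cast at h ⊢; omega)).2 (y m)).choose_spec
      have hzero : ∀ m, m ≤ n → NoHom P i (tw Q a m) := fun m hm =>
        haveI : DerivedCategory.IsGE (tw Q a m) (a - m) :=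
          inferInstanceAs (TStructure.t.IsGE ((TStructure.t.truncGE (a - (m : ℤ))).obj Q) (a - m))
        noHom_of_isGE (a := a - m) (by omega)
      refine ⟨fun m => if hm : n < m then y (m - (n + 1)) ≫ eqToHom (by rw [Nat.add_sub_cancel' hm]) else 0,
        fun m => ?_, ?_⟩
      · dsimp only
        by_cases hm : n < m
        · rw [dif_pos (by omega), dif_pos hm]
          obtain ⟨k, rfl⟩ : ∃ k, m = n + 1 + k := ⟨m - (n + 1), by omega⟩
          have e : ∀ (p : ℕ) (hp : p = k), y p ≫ eqToHom (congrArg (fun p => tw Q a (n + 1 + p)) hp) = y k :=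
            fun p hp => by subst hp; exact Category.comp_id _
          have e' : ∀ (p : ℕ) (hp : p = k + 1), y p ≫ eqToHom (congrArg (fun p => tw Q a (n + 1 + p)) hp) = y (k + 1) :=
            fun p hp => by subst hp; exact Category.comp_id _
          rw [e' _ (by omega), e _ (by omega)]
          exact hy k
        · rw [dif_neg hm]
          exact hzero m (by omega) _
      · dsimp only
        rw [dif_pos (by omega)]
        have e : ∀ p, p = 0 → ∀ (hp : tw Q a (n + 1 + p) = tw Q a (n + 1)), y p ≫ eqToHom hp = x := fun p hp h' => by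
          subst hp; exact Category.comp_id _
        exact e _ (Nat.sub_self _) _

end Tower

section Main

/-- `C` has no cohomology in degree `j` if no test map hits it -/
lemma isZero_homology_of_noHom {ι : Type t} (G : ι → A) (hG : ObjectProperty.IsSeparating (.ofObj G))
    (C : DerivedCategory A) (j : ℤ) (h : ∀ k, NoHom (G k) j C) : IsZero ((homologyFunctor A j).obj C) := by
  let K := Q.objPreimage C
  let e : Q.obj K ≅ C := Q.objObjPreimageIso C
  have hπ : K.homologyπ j = 0 := hG _ _ fun G' hG' g => by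
    obtain ⟨k⟩ := hG'
    let φ : (CochainComplex.singleFunctor A j).obj (G k) ⟶ K :=
      HomologicalComplex.mkHomFromSingle (g ≫ K.iCycles j) fun l hl => by simp
    have h0 : (singleFunctorIsoCompQ A j).hom.app (G k) ≫ Q.map φ = 0 := noHom_of_iso e.symm (h k) _
    have h1 : Q.map φ = 0 := (cancel_epi ((singleFunctorIsoCompQ A j).hom.app (G k))).1 (by rw [h0, comp_zero])
    have h2 : HomologicalComplex.homologyMap φ j = 0 := by
      have n := (homologyFunctorFactors A j).hom.naturality φ
      refine (cancel_epi ((homologyFunctorFactors A j).hom.app _)).1 (n.symm.trans ?_)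
      rw [Functor.comp_map, h1, Functor.map_zero, zero_comp]
      exact comp_zero.symm
    rw [comp_zero]
    have hc : (HomologicalComplex.singleObjCyclesSelfIso (ComplexShape.up ℤ) j (G k)).inv ≫
        HomologicalComplex.cyclesMap φ j = g := by
      rw [← cancel_mono (K.iCycles j)]
      refine (Category.assoc _ _ _).trans ?_
      erw [HomologicalComplex.cyclesMap_i]
      simp [φ, CochainComplex.singleFunctor, CochainComplex.singleFunctors]
    rw [← hc]
    refine (Category.assoc _ _ _).trans ?_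
    erw [← HomologicalComplex.homologyπ_naturality, h2, comp_zero, comp_zero]
  have : IsZero (K.homology j) := by
    rw [IsZero.iff_id_eq_zero, ← cancel_epi (K.homologyπ j), hπ, zero_comp, zero_comp]
  exact this.of_iso ((homologyFunctor A j).mapIso e.symm ≪≫ (homologyFunctorFactors A j).app K)

variable [EnoughInjectives A] [HasLimitsOfShape (Discrete ℕ) A]

/-- maps from acyclic test objects into `Q` are computed by truncations -/
theorem bijective_truncGEπ {ι : Type t} (G : ι → A) (hG : ObjectProperty.IsSeparating (.ofObj G))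
    (hGQ : ∀ k j, AcycFor (G k) ((homologyFunctor A j).obj Q))
    {P : A} (hQ : ∀ j, AcycFor P ((homologyFunctor A j).obj Q)) (i : ℤ) :
    Function.Bijective fun x : (singleFunctor A i).obj P ⟶ Q => x ≫ (TStructure.t.truncGEπ i).app Q := by
  have : HasProduct (fun n => tw Q i n) := Der55.hasProduct_of_isGE _ fun n =>
    ⟨i - n, inferInstanceAs (TStructure.t.IsGE ((TStructure.t.truncGE (i - (n : ℤ))).obj Q) (i - n))⟩
  have hGE : ∀ n, DerivedCategory.IsGE (tw Q i n) (i - n) := fun n =>
    inferInstanceAs (TStructure.t.IsGE ((TStructure.t.truncGE (i - (n : ℤ))).obj Q) (i - n))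
  obtain ⟨L, ι', δ, hT⟩ := distinguished_cocone_triangle₁ (oneSubShift Q i)
  -- the projections of `L`
  let b : ∀ n, L ⟶ tw Q i n := fun n => ι' ≫ Pi.π _ n
  have hb : ∀ {R : A}, (∀ j, AcycFor R ((homologyFunctor A j).obj Q)) → ∀ (n : ℕ) (j : ℤ), i - n ≤ j →
      Function.Bijective fun x : (singleFunctor A j).obj R ⟶ L => x ≫ b n := by
    intro R hR n j hj
    refine ⟨(injective_iff_map_eq_zero (AddMonoidHom.mk' (fun x : (singleFunctor A j).obj R ⟶ L => x ≫ b n)
      fun _ _ => Preadditive.add_comp _ _ _ _ _ _)).2 fun x hx => ?_, fun y => ?_⟩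
    · have hy : (x ≫ ι') ≫ oneSubShift Q i = 0 := by
        rw [Category.assoc]; exact (congrArg (x ≫ ·) (comp_distTriang_mor_zero₁₂ _ hT)).trans comp_zero
      have hc := compat_of_comp_eq_zero Q i _ hy
      have hall : ∀ m, (x ≫ ι') ≫ Pi.π _ m = 0 := by
        have hn : (x ≫ ι') ≫ Pi.π _ n = 0 := (Category.assoc _ _ _).trans hx
        intro m
        rcases le_total n m with hm | hm
        · induction m, hm using Nat.le_induction with
          | base => exact hn
          | succ m hm ih =>
            refine (bijective_tr Q i hR m j (by omega)).1 ?_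
            show _ ≫ tr Q i m = 0 ≫ tr Q i m
            rw [hc, ih, zero_comp]
        · induction hm using Nat.decreasingInduction with
          | self => exact hn
          | of_succ k hk ih => rw [← hc, ih, zero_comp]
      have hx0 : x ≫ ι' = 0 := Pi.hom_ext _ _ fun m => by rw [hall, zero_comp]
      obtain ⟨z, hz⟩ := Triangle.coyoneda_exact₂ _ (inv_rot_of_distTriang _ hT) x hx0
      let e : (singleFunctor A j).obj R ≅ ((singleFunctor A (j - 1)).obj R)⟦(-1 : ℤ)⟧ :=
        (((singleFunctors A).shiftIso (-1) j (j - 1) (by omega)).app R).symm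
      obtain ⟨v, hv⟩ := (shiftFunctor (DerivedCategory A) (-1 : ℤ)).map_surjective (e.inv ≫ z)
      obtain ⟨w, hw⟩ := surjective_oneSubShift Q i hR (n + 1) (j - 1) (by push_cast; omega) v
      have key : (oneSubShift Q i)⟦(-1 : ℤ)⟧' ≫ ((Triangle.mk ι' (oneSubShift Q i) δ).invRotate).mor₁ = 0 := by
        have h2 : oneSubShift Q i ≫ δ = 0 := comp_distTriang_mor_zero₂₃ _ hT
        show (oneSubShift Q i)⟦(-1 : ℤ)⟧' ≫ (-δ⟦(-1 : ℤ)⟧' ≫ _) = 0
        refine (Preadditive.comp_neg _ _).trans (neg_eq_zero.mpr ((Category.assoc _ _ _).symm.trans ?_))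
        refine (congrArg (· ≫ _) ((Functor.map_comp _ _ _).symm.trans ((congrArg _ h2).trans (Functor.map_zero _ _ _)))).trans ?_
        exact zero_comp
      rw [hz]
      refine (cancel_epi e.inv).1 (((Category.assoc _ _ _).symm.trans ?_).trans comp_zero.symm)
      refine (congrArg (· ≫ _) (hv.symm.trans ((congrArg _ hw.symm).trans (Functor.map_comp _ _ _)))).trans ?_
      exact ((Category.assoc _ _ _).trans (congrArg (_ ≫ ·) key)).trans comp_zero
    · obtain ⟨y', hy', hyn⟩ := exists_compat Q i hR n j hj y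
      obtain ⟨z, hz⟩ : ∃ z : (singleFunctor A j).obj R ⟶ L, Pi.lift y' = z ≫ ι' :=
        Triangle.coyoneda_exact₂ _ hT (Pi.lift y') (comp_oneSubShift_eq_zero Q i y' hy')
      refine ⟨z, ?_⟩
      show z ≫ ι' ≫ Pi.π _ n = y
      rw [← Category.assoc]
      exact (congrArg (· ≫ Pi.π _ n) hz.symm).trans ((Pi.lift_π _ _).trans hyn)
  -- `Q` is the limit
  obtain ⟨α, hα⟩ : ∃ α : Q ⟶ L, (Pi.lift (f := fun n => tw Q i n) fun n => (TStructure.t.truncGEπ (i - n)).app Q) = α ≫ ι' :=
    Triangle.coyoneda_exact₂ _ hT (Pi.lift fun n => (TStructure.t.truncGEπ (i - n)).app Q)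
    (comp_oneSubShift_eq_zero Q i _ fun n => TStructure.t.π_natTransTruncGEOfLE_app _ _ (by omega) Q)
  have hαb : ∀ n, α ≫ b n = (TStructure.t.truncGEπ (i - n)).app Q := fun n => by
    show α ≫ ι' ≫ Pi.π _ n = _
    rw [← Category.assoc]
    exact (congrArg (· ≫ Pi.π _ n) hα.symm).trans (Pi.lift_π _ _)
  have hbiso : ∀ (n : ℕ) (j : ℤ), i - n ≤ j → IsIso ((homologyFunctor A j).map (b n)) := by
    intro n j hj
    obtain ⟨C, c, c', hC⟩ := distinguished_cocone_triangle (b n)
    have hzero : ∀ l : ℤ, i - n - 1 ≤ l → IsZero ((homologyFunctor A l).obj C) := fun l hl =>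
      isZero_homology_of_noHom G hG C l fun k f => by
        have h1 : f ≫ c' = 0 := by
          let e : (singleFunctor A l).obj (G k) ≅ ((singleFunctor A (l + 1)).obj (G k))⟦(1 : ℤ)⟧ :=
            (((singleFunctors A).shiftIso 1 l (l + 1) (by omega)).app (G k)).symm
          obtain ⟨x, hx⟩ := (shiftFunctor (DerivedCategory A) (1 : ℤ)).map_surjective (e.inv ≫ f ≫ c')
          have hxb : x ≫ b n = 0 := by
            apply (shiftFunctor (DerivedCategory A) (1 : ℤ)).map_injective
            rw [Functor.map_comp, hx, Functor.map_zero, Category.assoc, Category.assoc]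
            refine (congrArg (fun t => e.inv ≫ f ≫ t) (show c' ≫ (b n)⟦(1 : ℤ)⟧' = 0 from comp_distTriang_mor_zero₃₁ _ hC)).trans ?_
            rw [comp_zero, comp_zero]
          have hx0 : x = 0 := (hb (hGQ k) n (l + 1) (by omega)).1 (show x ≫ b n = 0 ≫ b n by rw [hxb, zero_comp])
          rw [hx0, Functor.map_zero] at hx
          exact (cancel_epi e.inv).1 (by rw [← hx, comp_zero])
        obtain ⟨g, hg⟩ : ∃ g : (singleFunctor A l).obj (G k) ⟶ tw Q i n, f = g ≫ c :=
          Triangle.coyoneda_exact₃ _ hC f h1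
        rw [hg]
        rcases le_or_gt (i - (n : ℤ)) l with h | h
        · obtain ⟨g', hg'⟩ := (hb (hGQ k) n l h).2 g
          refine ((congrArg (· ≫ c) hg'.symm).trans (Category.assoc _ _ _)).trans ?_
          exact (congrArg (g' ≫ ·) (comp_distTriang_mor_zero₁₂ _ hC)).trans comp_zero
        · have := hGE n
          rw [noHom_of_isGE (a := i - n) (i := l) h g]
          exact zero_comp
    have hm : Mono ((homologyFunctor A j).map (Triangle.mk (b n) c c').mor₁) :=
      (HomologySequence.mono_homologyMap_mor₁_iff _ hC (j - 1) j (by omega)).2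
        ((hzero (j - 1) (by omega)).eq_of_src _ _)
    have he : Epi ((homologyFunctor A j).map (Triangle.mk (b n) c c').mor₁) :=
      (HomologySequence.epi_homologyMap_mor₁_iff _ hC j).2 ((hzero j (by omega)).eq_of_tgt _ _)
    exact @isIso_of_mono_of_epi _ _ _ _ _ _ hm he
  have : IsIso α := by
    refine (DerivedCategory.isIso_iff A α).2 fun j => ?_
    have := hbiso (i - j).toNat j (by omega)
    have h2 : IsIso ((homologyFunctor A j).map α ≫ (homologyFunctor A j).map (b (i - j).toNat)) := by
      rw [← Functor.map_comp, hαb]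
      have hT' := TStructure.t.triangleLTGE_distinguished (i - (i - j).toNat) Q
      have : DerivedCategory.IsLE ((TStructure.t.triangleLTGE (i - (i - j).toNat)).obj Q).obj₁ (i - (i - j).toNat - 1) :=
        inferInstanceAs (TStructure.t.IsLE ((TStructure.t.truncLT (i - (i - j).toNat)).obj Q) (i - (i - j).toNat - 1))
      have hm : Mono ((homologyFunctor A j).map ((TStructure.t.triangleLTGE (i - (i - j).toNat)).obj Q).mor₂) :=
        (HomologySequence.mono_homologyMap_mor₂_iff _ hT' j).2
          ((isZero_of_isLE _ (i - (i - j).toNat - 1) j (by omega)).eq_of_src _ _)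
      have he : Epi ((homologyFunctor A j).map ((TStructure.t.triangleLTGE (i - (i - j).toNat)).obj Q).mor₂) :=
        (HomologySequence.epi_homologyMap_mor₂_iff _ hT' j (j + 1) rfl).2
          ((isZero_of_isLE _ (i - (i - j).toNat - 1) (j + 1) (by omega)).eq_of_tgt _ _)
      exact @isIso_of_mono_of_epi _ _ _ _ _ _ hm he
    exact IsIso.of_isIso_comp_right _ ((homologyFunctor A j).map (b (i - j).toNat))
  have key := (hb hQ 0 i (by simp)).comp (show Function.Bijective fun x : (singleFunctor A i).obj P ⟶ Q => x ≫ α from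
    ⟨fun x y h => (cancel_mono α).1 h, fun y => ⟨y ≫ inv α, by simp⟩⟩)
  have e0 : i - ((0 : ℕ) : ℤ) = i := by simp
  have conv : ∀ (c : ℤ), c = i → Function.Bijective
      (fun x : (singleFunctor A i).obj P ⟶ Q => x ≫ (TStructure.t.truncGEπ c).app Q) →
      Function.Bijective fun x : (singleFunctor A i).obj P ⟶ Q => x ≫ (TStructure.t.truncGEπ i).app Q := fun c hc h => by
    subst hc; exact h
  refine conv _ e0 (Eq.mp (congrArg Function.Bijective (funext fun x => ?_)) key)
  show (x ≫ α) ≫ b 0 = _
  rw [Category.assoc, hαb]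

/-- if a test object sees nothing of `Q` in degree `i`, it sees nothing of the cohomology -/
theorem hom_homology_eq_zero {ι : Type t} (G : ι → A) (hG : ObjectProperty.IsSeparating (.ofObj G))
    (hGQ : ∀ k j, AcycFor (G k) ((homologyFunctor A j).obj Q))
    {P : A} (hQ : ∀ j, AcycFor P ((homologyFunctor A j).obj Q)) (i : ℤ) (h : NoHom P i Q)
    (g : P ⟶ (homologyFunctor A i).obj Q) : g = 0 := by
  have hb := bijective_truncGEπ Q G hG hGQ hQ i
  have h0 : NoHom P i ((TStructure.t.truncGE i).obj Q) := fun f => by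
    obtain ⟨x, rfl⟩ := hb.2 f
    simp [h x]
  obtain ⟨W, u, δ, hT, ⟨eW⟩⟩ := exists_fibre Q i
  apply (singleFunctor A i).map_injective
  rw [Functor.map_zero, ← cancel_mono eW.inv, zero_comp]
  have h1 := h0 (((singleFunctor A i).map g ≫ eW.inv) ≫ u)
  obtain ⟨z, hz⟩ := Triangle.coyoneda_exact₂ _ (inv_rot_of_distTriang _ hT) ((singleFunctor A i).map g ≫ eW.inv) h1
  have : DerivedCategory.IsGE ((TStructure.t.truncGE (i + 1)).obj Q) (i + 1) :=
    inferInstanceAs (TStructure.t.IsGE ((TStructure.t.truncGE (i + 1)).obj Q) (i + 1))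
  refine hz.trans ((congrArg (· ≫ _) (noHom_shift (k := (-1 : ℤ)) (@noHom_of_isGE _ _ _ _ P (i - 1) (i + 1) _ this (show i - 1 < i + 1 by omega)) (by omega) z)).trans ?_)
  exact zero_comp

end Main

end Groth.Agent.EtRest69
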