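import Groth.Agent.BrauerXCurve.ClosedSupp
import Groth.Agent.EtDerLib.ZU
import Groth.Agent.EtBCLib.SecAcyc
import Groth.Agent.EtFound.SepClosedField
import Mathlib.FieldTheory.PurelyInseparable.Basic
import Groth.Agent.EtRest69.LeftComplete

/-!
# Sheaves supported at closed points of a scheme over a separably closed field
-/

set_option autoImplicit false
set_option backward.isDefEq.respectTransparency.types false
set_option linter.style.haveILetI false

universe u

open CategoryTheory CategoryTheory.Limits AlgebraicGeometry Opposite CategoryTheory.Abelian DerivedCategory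

attribute [local instance] HasDerivedCategory.standard

namespace Groth.Agent.EtRest69

open Groth.Agent.EtFound Groth.Agent.EtPBC63 Groth.Agent.EtSupp70 Groth.Agent.EtDerLib

variable {K : Type u} [Field K] {X : Scheme.{u}}

/-- residue fields at closed points of schemes over separably closed fields -/
theorem isSepClosed_residueField [IsSepClosed K] (a : X ⟶ Spec (CommRingCat.of K)) [LocallyOfFiniteType a]
    (x : X) (hx : IsClosed ({x} : Set X)) : IsSepClosed (X.residueField x) := by
  haveI := isClosed_singleton_iff_isClosedImmersion.mp hx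
  let g := X.fromSpecResidueField x ≫ a
  haveI : IsFinite g := (isFinite_iff_locallyOfFiniteType_of_jacobsonSpace (f := g)).mpr inferInstance
  have h : (Spec.preimage g).hom.Finite := by
    rw [← IsFinite.SpecMap_iff, Spec.map_preimage]
    infer_instance
  letI := (Spec.preimage g).hom.toAlgebra
  haveI : Module.Finite (CommRingCat.of K) (X.residueField x) := h
  letI : Algebra K (X.residueField x) := (Spec.preimage g).hom.toAlgebra
  haveI : Module.Finite K (X.residueField x) := h
  exact Algebra.IsAlgebraic.isSepClosed (F := K) (E := X.residueField x)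

/-- the punctual sheaves -/
def IsPunctual (F : EtCoh.Ab X) : Prop := ∀ x ∈ EtPBC.supp F, IsClosed ({x} : Set X)

/-- punctuality is stable by etale localisation -/
theorem isPunctual_pull {U : Scheme.{u}} (f : U ⟶ X) [AlgebraicGeometry.Etale f] (F : EtCoh.Ab X)
    (hF : IsPunctual F) : IsPunctual ((EtCoh.pull f).obj F) := by
  intro q hq
  obtain ⟨Ω, _, _, ξ, rfl⟩ := exists_geomPoint q
  have h1 : f.base (ξ.base default) ∈ EtPBC.supp F :=
    Set.mem_of_eq_of_mem (Scheme.Hom.comp_apply _ _ _).symm ((mem_supp_iff (ξ ≫ f)).2 fun hz =>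
      (mem_supp_iff ξ).1 hq (hz.of_iso ((stalkPullIso f ξ).app F)))
  have hcl := (hF _ h1).preimage f.continuous
  haveI : LocallyQuasiFinite f := by
    rw [HasRingHomProperty.iff_appLE (P := @LocallyQuasiFinite)]
    intro V W hVW
    have := HasRingHomProperty.appLE @AlgebraicGeometry.Etale f ‹_› V W hVW
    algebraize [(f.appLE V.1 W.1 hVW).hom]
    exact (inferInstance : Algebra.QuasiFinite Γ(X, V.1) Γ(U, W.1))
  haveI : DiscreteTopology (f.base ⁻¹' {f.base (ξ.base default)} : Set U) :=
    isDiscrete_iff_discreteTopology.1 (f.isDiscrete_preimage_singleton _)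
  have h2 := (hcl.isClosedEmbedding_subtypeVal).isClosedMap _
    (isClosed_discrete ({⟨ξ.base default, rfl⟩} : Set (f.base ⁻¹' {f.base (ξ.base default)} : Set U)))
  rwa [Set.image_singleton] at h2

/-- translation of the vanishing of higher extensions -/
theorem acycFor_of_subsingleton {A : Type (u + 2)} [Category.{u + 1} A] [Abelian A] [HasExt.{u + 1} A] (P F : A)
    (h : ∀ n : ℕ, Subsingleton (Ext P F (n + 1))) : AcycFor P F := by
  intro i c hic f
  obtain ⟨n, hn⟩ : ∃ n : ℕ, i - c = (n + 1 : ℕ) := ⟨(i - c).toNat - 1, by omega⟩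
  haveI := h n
  let e₁ : (singleFunctor A 0).obj P ≅ ((singleFunctor A i).obj P)⟦i⟧ :=
    (((singleFunctors A).shiftIso i 0 i (by omega)).app P).symm
  let e₂ : ((singleFunctor A c).obj F)⟦i⟧ ≅ ((singleFunctor A 0).obj F)⟦((n + 1 : ℕ) : ℤ)⟧ :=
    ((singleFunctors A).shiftIso i (c - i) c (by omega)).app F ≪≫
      (((singleFunctors A).shiftIso ((n + 1 : ℕ) : ℤ) (c - i) 0 (by omega)).app F).symm
  apply (shiftFunctor (DerivedCategory A) i).map_injective
  rw [Functor.map_zero, ← cancel_epi e₁.hom, ← cancel_mono e₂.hom, comp_zero, zero_comp]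
  haveI : Subsingleton (ShiftedHom ((singleFunctor A 0).obj P) ((singleFunctor A 0).obj F) ((n + 1 : ℕ) : ℤ)) :=
    (Ext.homEquiv (X := P) (Y := F) (n := n + 1)).symm.subsingleton
  exact Subsingleton.elim (α := ShiftedHom ((singleFunctor A 0).obj P) ((singleFunctor A 0).obj F) ((n + 1 : ℕ) : ℤ)) _ _

variable [IsSepClosed K] (a : X ⟶ Spec (CommRingCat.of K)) [LocallyOfFiniteType a] [QuasiCompact a]

include a in
/-- punctual sheaves are acyclic on the whole scheme -/
theorem subsingleton_H_punctual (F : EtCoh.Ab X) (hF : IsPunctual F) (n : ℕ) :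
    Subsingleton (EtCoh.H X F (n + 1)) := by
  haveI : IsLocallyNoetherian X := LocallyOfFiniteType.isLocallyNoetherian a
  haveI : CompactSpace X := QuasiCompact.compactSpace_of_compactSpace a
  haveI : AlgebraicGeometry.IsNoetherian X := { }
  exact BrauerXCurve.subsingleton_H_supp_closedPoints (fun x hx => isSepClosed_residueField a x hx) F hF n

include a in
theorem acycFor_const (F : EtCoh.Ab X) (hF : IsPunctual F) : AcycFor (EtCoh.const X ℤ) F :=
  acycFor_of_subsingleton _ _ fun n => subsingleton_H_punctual a F hF n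

include a in
/-- punctual sheaves are acyclic on quasi-compact objects of the site -/
theorem acycFor_ZU (F : EtCoh.Ab X) (hF : IsPunctual F) (U : X.Etale) [CompactSpace U.left] :
    AcycFor (ZU U) F := by
  haveI : AlgebraicGeometry.Etale U.hom := U.prop
  refine acycFor_of_subsingleton _ _ fun n => ?_
  haveI : QuasiCompact (U.hom ≫ a) := (quasiCompact_iff_compactSpace _).2 ‹CompactSpace U.left›
  haveI := subsingleton_H_punctual (U.hom ≫ a) _ (isPunctual_pull U.hom F hF) n
  exact (toH_bijective U (n + 1) F).1.subsingleton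

include a in
/-- a punctual sheaf with no nonzero global section is zero -/
theorem exists_hom_ne_zero (F : EtCoh.Ab X) (hF : IsPunctual F) (h0 : ¬ IsZero F) :
    ∃ φ : EtCoh.const X ℤ ⟶ F, φ ≠ 0 := by
  obtain ⟨x, hx⟩ : (EtPBC.supp F).Nonempty := by
    by_contra h
    exact h0 ((isZero_iff_stalks _).2 fun Ω _ _ ξ => by
      by_contra h1; exact h ⟨_, (mem_supp_iff ξ).2 h1⟩)
  let i := X.fromSpecResidueField x
  have hri : Set.range i.base = {x} := Scheme.range_fromSpecResidueField x
  let u : F ⟶ (EtCoh.push i).obj ((EtCoh.pull i).obj F) := (EtCoh.pullPushAdj i).unit.app F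
  haveI := EtFound.pull_preservesFiniteLimits i
  haveI : IsIso ((EtCoh.pullPushAdj i).counit.app ((EtCoh.pull i).obj F)) :=
    counit_isIso_fromSpecResidueField X x _
  haveI hiu : IsIso ((EtCoh.pull i).map u) :=
    isIso_of_comp_hom_eq_id _ ((EtCoh.pullPushAdj i).left_triangle_components F)
  haveI : (EtCoh.pull i).IsLeftAdjoint := (EtCoh.pullPushAdj i).isLeftAdjoint
  have hC : IsZero (cokernel u) := (isZero_iff_stalks _).2 fun Ω _ _ ξ => by
    by_contra h
    have hy := (mem_supp_iff ξ).2 h
    have h1 := supp_push_subset i _ (supp_subset_of_epi (cokernel.π u) hy)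
    rw [hri, (hF x hx).closure_eq] at h1
    have hz : IsZero ((EtCoh.pull i).obj (cokernel u)) := by
      refine IsZero.of_epi_eq_zero ((EtCoh.pull i).map (cokernel.π u)) ?_
      rw [← cancel_epi ((EtCoh.pull i).map u), ← Functor.map_comp, cokernel.condition, Functor.map_zero, comp_zero]
    rw [isZero_pull_iff, hri] at hz
    exact Set.disjoint_left.1 hz h1 hy
  haveI : Epi u := Preadditive.epi_of_isZero_cokernel u hC
  -- a nonzero map to the skyscraper
  haveI : IsSepClosed (X.residueField x) := isSepClosed_residueField a x (hF x hx)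
  let M := (EtCoh.pull i).obj F
  have hM : ¬ IsZero M := fun hz => by
    rw [isZero_pull_iff, hri] at hz
    exact Set.disjoint_left.1 hz rfl hx
  obtain ⟨t, ht⟩ : ∃ t : M.obj.obj (op (EtCoh.top (Spec (X.residueField x)))), t ≠ 0 := by
    by_contra! hall
    refine hM ((isZero_iff_stalks _).2 fun Ω _ _ ξ => ?_)
    obtain ⟨e⟩ := nonempty_stalk_equiv M ξ (𝟙 (Spec (CommRingCat.of (X.residueField x))))
      (Subsingleton.elim _ _)
    haveI : Subsingleton (M.obj.obj (op (EtCoh.top (Spec (X.residueField x))))) :=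
      subsingleton_of_forall_eq 0 hall
    haveI : Subsingleton ((EtCoh.stalk (𝟙 (Spec (CommRingCat.of (X.residueField x))))).obj M) :=
      (@toPresheafFiber_idTop_bijective (X.residueField x) _ ‹IsSepClosed (X.residueField x)› _ _ _ _ _ _ _ _ M.obj).2.subsingleton
    exact AddCommGrpCat.isZero_iff_subsingleton.2 e.subsingleton
  obtain ⟨E, hE⟩ := EtBCLib.exists_hom_of_sec X
  let v : EtCoh.const X ℤ ⟶ (EtCoh.push i).obj M :=
    ((EtCoh.pullPushAdj i).homEquiv _ _) ((EtCore.pullConst i ℤ).hom ≫ ((EtBCLib.exists_hom_of_sec _).choose M).symm t)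
  have hv : v ≠ 0 := fun h => by
    apply ht
    have h2 : (EtCore.pullConst i ℤ).hom ≫ ((EtBCLib.exists_hom_of_sec _).choose M).symm t = 0 := by
      apply ((EtCoh.pullPushAdj i).homEquiv _ _).injective
      refine h.trans ?_
      rw [Adjunction.homEquiv_unit, Functor.map_zero, comp_zero]
    have h3 := congrArg ((EtBCLib.exists_hom_of_sec _).choose M) (zero_of_epi_comp _ h2)
    rw [Equiv.apply_symm_apply] at h3
    refine h3.trans ?_
    have := (EtBCLib.exists_hom_of_sec _).choose_spec M M (0 : M ⟶ M) (0 : EtCoh.const _ ℤ ⟶ M)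
    rw [comp_zero] at this
    exact this.trans (by simp)
  have hK : IsPunctual (kernel u) := fun y hy => hF y (supp_subset_of_mono (kernel.ι u) hy)
  let S := ShortComplex.mk (kernel.ι u) u (kernel.condition u)
  have hS : S.ShortExact := { exact := ShortComplex.exact_of_f_is_kernel _ (kernelIsKernel _) }
  haveI : Subsingleton (Ext (EtCoh.const X ℤ) S.X₁ 1) := subsingleton_H_punctual a (kernel u) hK 0
  obtain ⟨z, hz⟩ := Ext.covariant_sequence_exact₃ _ hS (Ext.mk₀ v) (zero_add 1) (Subsingleton.elim _ _)
  obtain ⟨φ, rfl⟩ := (Ext.mk₀_bijective _ _).2 z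
  rw [Ext.mk₀_comp_mk₀] at hz
  refine ⟨φ, fun h => hv ((Ext.mk₀_bijective _ _).1 ?_)⟩
  rw [← hz, h, zero_comp]

/-- quasi-compact quasi-separated objects generate -/
theorem isSeparating_ZU :
    ObjectProperty.IsSeparating (.ofObj fun U : {U : X.Etale // EtFound.IsQcqsObj U} => ZU U.1) := by
  intro F G f g h
  refine Sheaf.hom_ext (NatTrans.ext (funext fun V => ?_))
  refine ConcreteCategory.hom_ext _ _ fun t => ?_
  obtain ⟨R, hR, hW⟩ := EtBCLib.exists_qcqs_cover V.unop
  refine (((isSheaf_iff_isSheaf_of_type _ _).1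
    ((sheafCompose X.smallEtaleTopology (forget AddCommGrpCat.{u + 1})).obj G).property).isSeparated _ hR).ext
      fun W r hr => ?_
  obtain ⟨U, p, q, hU, rfl⟩ := hW r hr
  have h1 := h _ ⟨⟨U, hU⟩⟩ ((zuEquiv U F).symm (F.obj.map q.op t))
  rw [zuEquiv_symm_comp, zuEquiv_symm_comp] at h1
  have h2 := (zuEquiv U G).symm.injective h1
  have h3 : G.obj.map q.op (f.hom.app V t) = G.obj.map q.op (g.hom.app V t) :=
    ((NatTrans.naturality_apply f.hom q.op t).symm.trans h2).trans (NatTrans.naturality_apply g.hom q.op t)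
  show G.obj.map (p ≫ q).op (f.hom.app V t) = G.obj.map (p ≫ q).op (g.hom.app V t)
  rw [op_comp, Functor.map_comp_apply, Functor.map_comp_apply, h3]

end Groth.Agent.EtRest69
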