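import Groth.Prelude.Def_EtRestW
import Groth.Agent.Hensel.TensorStrict

/-!
# Varieties of vanishing cycles of a base change

If `A → B` is a union of quasi-finite algebras then the variety of vanishing cycles of `B ⊗_A C` over `B`
at a geometric point is one of `C` over `A`.
-/

universe u

open IsLocalRing TensorProduct CategoryTheory

namespace Groth.Agent.EtRest69

open Groth.Agent.Hensel

/-- embeddings of separable extensions factor through separably closed subfields -/
theorem exists_factor_sepClosed {k L K M : Type u} [Field k] [Field L] [IsSepClosed L] [Field K] [Field M]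
    [Algebra k K] [Algebra.IsSeparable k K] [Algebra k M] (j : k →+* L) (τ : L →+* M)
    (hj : ∀ a, τ (j a) = algebraMap k M a) (σ : K →ₐ[k] M) :
    ∃ σ' : K →+* L, ∀ x, τ (σ' x) = σ x := by
  let : Algebra k L := j.toAlgebra
  let : Algebra L M := τ.toAlgebra
  have : IsScalarTower k L M := .of_algebraMap_eq fun a => (hj a).symm
  have h : ∀ x, ∃ y : L, τ y = σ x := fun x => by
    have h0 : IsSeparable k (σ x) := (Algebra.IsSeparable.isSeparable k x).map σ σ.toRingHom.injective
    have h1 : IsSeparable L (σ x) := h0.tower_top L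
    have := IntermediateField.isSeparable_adjoin_simple_iff_isSeparable (F := L) (E := M) |>.2 h1
    have h2 := IntermediateField.eq_bot_of_isSepClosed_of_isSeparable
      (IntermediateField.adjoin L ({σ x} : Set M))
    obtain ⟨y, hy⟩ := IntermediateField.mem_bot.1 (h2 ▸ IntermediateField.mem_adjoin_simple_self L (σ x))
    exact ⟨y, hy⟩
  choose c hc using h
  exact ⟨{ toFun := c
           map_one' := τ.injective (by rw [hc, map_one, map_one])
           map_mul' := fun x y => τ.injective (by rw [hc, map_mul τ, map_mul σ, hc, hc])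
           map_zero' := τ.injective (by rw [hc, map_zero, map_zero])
           map_add' := fun x y => τ.injective (by rw [hc, map_add τ, map_add σ, hc, hc]) }, hc⟩

section Maps

variable {R : Type u} [CommRing R] {p : Ideal R} [p.IsPrime]
  (Rh : Type u) [CommRing Rh] [IsLocalRing Rh] [Algebra (Localization.AtPrime p) Rh]
  [IsLocalHom (algebraMap (Localization.AtPrime p) Rh)] [Algebra R Rh] [IsScalarTower R (Localization.AtPrime p) Rh]
  [Hensel.IsStrictHenselization (Localization.AtPrime p) Rh]
  {T : Type u} [CommRing T] [HenselianLocalRing T] [IsSepClosed (ResidueField T)]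

/-- strict henselizations map to strictly henselian rings -/
theorem exists_strict_map (f : R →+* T) (hf : (maximalIdeal T).comap f = p) :
    ∃ g : Rh →+* T, g.comp (algebraMap R Rh) = f ∧ IsLocalHom g := by
  obtain ⟨F, hF, hFl⟩ := exists_localization_lift f hf
  have hE : IsSepClosure (ResidueField (Localization.AtPrime p)) (ResidueField Rh) :=
    Hensel.IsStrictHenselization.isSepClosure
  have := hE.separable
  let : Algebra (ResidueField (Localization.AtPrime p)) (ResidueField T) := (ResidueField.map F).toAlgebra
  let τ := IsSepClosed.lift (K := ResidueField (Localization.AtPrime p)) (L := ResidueField Rh) (M := ResidueField T)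
  obtain ⟨g, hg, hgl, -⟩ := strict_lift (p := p) (Rh := Rh) f hf τ.toRingHom fun r => by
    have := τ.commutes (residue _ (algebraMap R _ r))
    refine Eq.trans ?_ (this.trans ?_)
    · show τ _ = τ _
      congr 1
      rw [ResidueField.algebraMap_residue, ← IsScalarTower.algebraMap_apply]
    · exact congrArg (residue T) (RingHom.congr_fun hF r)
  exact ⟨g, hg, hgl⟩

/-- maps into a strictly henselian ring lift through strictly henselian subrings -/
theorem exists_strict_factor {Ch : Type u} [CommRing Ch] [HenselianLocalRing Ch] [IsSepClosed (ResidueField Ch)]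
    (gC : Ch →+* T) [IsLocalHom gC] (gA : Rh →+* T) [IsLocalHom gA] (f : R →+* Ch)
    (hf : (maximalIdeal Ch).comap f = p) (h : gC.comp f = gA.comp (algebraMap R Rh)) :
    ∃ g : Rh →+* Ch, g.comp (algebraMap R Rh) = f ∧ IsLocalHom g ∧ gC.comp g = gA := by
  obtain ⟨F, hF, hFl⟩ := exists_localization_lift f hf
  have hE : IsSepClosure (ResidueField (Localization.AtPrime p)) (ResidueField Rh) :=
    Hensel.IsStrictHenselization.isSepClosure
  have := hE.separable
  let : Algebra (ResidueField (Localization.AtPrime p)) (ResidueField T) :=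
    ((ResidueField.map gC).comp (ResidueField.map F)).toAlgebra
  let σ : ResidueField Rh →ₐ[ResidueField (Localization.AtPrime p)] ResidueField T :=
    { ResidueField.map gA with
      commutes' := fun z => by
        obtain ⟨z, rfl⟩ := residue_surjective z
        have e : gA.comp (algebraMap (Localization.AtPrime p) Rh) = gC.comp F :=
          IsLocalization.ringHom_ext p.primeCompl (by
            rw [RingHom.comp_assoc, ← IsScalarTower.algebraMap_eq, RingHom.comp_assoc, hF, h])
        show ResidueField.map gA (algebraMap _ _ (residue _ z)) =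
          ResidueField.map gC (ResidueField.map F (residue _ z))
        rw [ResidueField.algebraMap_residue, ResidueField.map_residue, ResidueField.map_residue,
          ResidueField.map_residue]
        exact congrArg (residue T) (RingHom.congr_fun e z) }
  obtain ⟨τ, hτ⟩ := exists_factor_sepClosed (ResidueField.map F) (ResidueField.map gC) (fun _ => rfl) σ
  obtain ⟨g, hg, hgl, hgres⟩ := strict_lift (p := p) (Rh := Rh) f hf τ fun r => by
    apply (ResidueField.map gC).injective
    rw [hτ]
    show ResidueField.map gA _ = _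
    rw [ResidueField.map_residue, ResidueField.map_residue]
    exact congrArg (residue T) (RingHom.congr_fun h.symm r)
  refine ⟨g, hg, hgl, ?_⟩
  have e : (gC.comp g).comp (algebraMap R Rh) = gA.comp (algebraMap R Rh) := by
    rw [RingHom.comp_assoc, hg, h]
  refine strict_ext (R := R) (p := p) (Rh := Rh) e ?_ fun x => ?_
  · have hC : (maximalIdeal T).comap gC = maximalIdeal Ch :=
      ((local_hom_TFAE gC).out 0 4).mp ‹IsLocalHom gC›
    rw [RingHom.comp_assoc, hg, ← Ideal.comap_comap, hC, hf]
  · show residue T (gC (g x)) = residue T (gA x)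
    rw [← ResidueField.map_residue gC, hgres, hτ]
    exact ResidueField.map_residue gA x

end Maps

/-- transfer of properties of varieties of vanishing cycles along quasi-finite base change -/
theorem vc_transfer (A B C : Type u) [CommRing A] [CommRing B] [CommRing C] [Algebra A B] [Algebra A C]
    (pA : Ideal A) [pA.IsPrime] (pB : Ideal B) [pB.IsPrime] [pB.LiesOver pA]
    (pC : Ideal C) [pC.IsPrime] [pC.LiesOver pA]
    (pD : Ideal (B ⊗[A] C)) [pD.IsPrime] [pD.LiesOver pB]
    (hDC : pD.comap (Algebra.TensorProduct.includeRight : C →ₐ[A] B ⊗[A] C).toRingHom = pC)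
    (hB : ∀ s : Finset B, ∃ B₀ : Subalgebra A B, (↑s : Set B) ⊆ ↑B₀ ∧
      Algebra.FiniteType A ↥B₀ ∧ Algebra.QuasiFinite A ↥B₀)
    (Bsh : Type u) [CommRing Bsh] [IsLocalRing Bsh] [Algebra (Localization.AtPrime pB) Bsh]
    [IsLocalHom (algebraMap (Localization.AtPrime pB) Bsh)]
    [Hensel.IsStrictHenselization (Localization.AtPrime pB) Bsh]
    (Dsh : Type u) [CommRing Dsh] [IsLocalRing Dsh] [Algebra (Localization.AtPrime pD) Dsh]
    [IsLocalHom (algebraMap (Localization.AtPrime pD) Dsh)]
    [Hensel.IsStrictHenselization (Localization.AtPrime pD) Dsh]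
    [Algebra Bsh Dsh] [IsLocalHom (algebraMap Bsh Dsh)]
    (hBD : ∀ b : B, algebraMap Bsh Dsh (algebraMap (Localization.AtPrime pB) Bsh (algebraMap B _ b)) =
      algebraMap (Localization.AtPrime pD) Dsh (algebraMap (B ⊗[A] C) _ (b ⊗ₜ[A] (1 : C))))
    (Φ : CommRingCat.{u} → Prop) (hΦ : ∀ {R R' : CommRingCat.{u}}, (R ≅ R') → Φ R → Φ R')
    (Ω : Type u) [Field Ω] [IsSepClosed Ω] [Algebra Bsh Ω]
    (h : ∀ (Ash : Type u) [CommRing Ash] [IsLocalRing Ash] [Algebra (Localization.AtPrime pA) Ash]
      [IsLocalHom (algebraMap (Localization.AtPrime pA) Ash)]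
      [Hensel.IsStrictHenselization (Localization.AtPrime pA) Ash]
      (Csh : Type u) [CommRing Csh] [IsLocalRing Csh] [Algebra (Localization.AtPrime pC) Csh]
      [IsLocalHom (algebraMap (Localization.AtPrime pC) Csh)]
      [Hensel.IsStrictHenselization (Localization.AtPrime pC) Csh]
      [Algebra Ash Csh] [IsLocalHom (algebraMap Ash Csh)],
      (∀ a : A, algebraMap Ash Csh (algebraMap (Localization.AtPrime pA) Ash (algebraMap A _ a)) =
        algebraMap (Localization.AtPrime pC) Csh (algebraMap C _ (algebraMap A C a))) →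
      ∀ [Algebra Ash Ω], Φ (CommRingCat.of (EtRest.vcRing Ash Csh Ω))) :
    Φ (CommRingCat.of (EtRest.vcRing Bsh Dsh Ω)) := by
  let : HenselianLocalRing Bsh := Hensel.IsStrictHenselization.henselian (R := Localization.AtPrime pB)
  let : HenselianLocalRing Dsh := Hensel.IsStrictHenselization.henselian (R := Localization.AtPrime pD)
  have : IsSepClosed (ResidueField Bsh) :=
    (Hensel.IsStrictHenselization.isSepClosure (R := Localization.AtPrime pB) (S := Bsh)).sep_closed
  have : IsSepClosed (ResidueField Dsh) :=
    (Hensel.IsStrictHenselization.isSepClosure (R := Localization.AtPrime pD) (S := Dsh)).sep_closed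
  let Ash := StrictHenz (Localization.AtPrime pA)
  let Csh := StrictHenz (Localization.AtPrime pC)
  let : Algebra B Bsh := ((algebraMap (Localization.AtPrime pB) Bsh).comp (algebraMap B _)).toAlgebra
  have : IsScalarTower B (Localization.AtPrime pB) Bsh := .of_algebraMap_eq fun _ => rfl
  let : Algebra (B ⊗[A] C) Dsh := ((algebraMap (Localization.AtPrime pD) Dsh).comp (algebraMap _ _)).toAlgebra
  have : IsScalarTower (B ⊗[A] C) (Localization.AtPrime pD) Dsh := .of_algebraMap_eq fun _ => rfl
  let : Algebra A Bsh := ((algebraMap B Bsh).comp (algebraMap A B)).toAlgebra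
  have : IsScalarTower A B Bsh := .of_algebraMap_eq fun _ => rfl
  let : Algebra A Ash := ((algebraMap (Localization.AtPrime pA) Ash).comp (algebraMap A _)).toAlgebra
  have : IsScalarTower A (Localization.AtPrime pA) Ash := .of_algebraMap_eq fun _ => rfl
  let : Algebra C Csh := ((algebraMap (Localization.AtPrime pC) Csh).comp (algebraMap C _)).toAlgebra
  have : IsScalarTower C (Localization.AtPrime pC) Csh := .of_algebraMap_eq fun _ => rfl
  let : Algebra A Csh := ((algebraMap C Csh).comp (algebraMap A C)).toAlgebra
  have : IsScalarTower A C Csh := .of_algebraMap_eq fun _ => rfl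
  have hA : (maximalIdeal Bsh).comap (algebraMap A Bsh) = pA := by
    rw [IsScalarTower.algebraMap_eq A B Bsh, ← Ideal.comap_comap, comap_algebraMap_atPrime B pB Bsh]
    exact (pB.over_def pA).symm
  obtain ⟨gA, hgA, hgAl⟩ := exists_strict_map Ash (algebraMap A Bsh) hA
  let iC : C →+* Dsh := (algebraMap (B ⊗[A] C) Dsh).comp
    (Algebra.TensorProduct.includeRight : C →ₐ[A] B ⊗[A] C).toRingHom
  obtain ⟨gC, hgC, hgCl⟩ := exists_strict_map Csh iC (by
    rw [← Ideal.comap_comap, comap_algebraMap_atPrime (B ⊗[A] C) pD Dsh, hDC])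
  have hsq : gC.comp (algebraMap A Csh) = ((algebraMap Bsh Dsh).comp gA).comp (algebraMap A Ash) := by
    refine RingHom.ext fun a => ?_
    show gC (algebraMap C Csh (algebraMap A C a)) = algebraMap Bsh Dsh (gA (algebraMap A Ash a))
    rw [show gC (algebraMap C Csh (algebraMap A C a)) = iC (algebraMap A C a) from RingHom.congr_fun hgC _,
      show gA (algebraMap A Ash a) = algebraMap A Bsh a from RingHom.congr_fun hgA a]
    refine Eq.trans ?_ (hBD (algebraMap A B a)).symm
    show algebraMap (Localization.AtPrime pD) Dsh (algebraMap _ _ ((1 : B) ⊗ₜ[A] algebraMap A C a)) = _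
    congr 2
    rw [Algebra.algebraMap_eq_smul_one, Algebra.algebraMap_eq_smul_one, smul_tmul]
  have : IsLocalHom ((algebraMap Bsh Dsh).comp gA) := inferInstance
  have : IsSepClosed (ResidueField Csh) :=
    (Hensel.IsStrictHenselization.isSepClosure (R := Localization.AtPrime pC) (S := Csh)).sep_closed
  obtain ⟨g, hg, hgl, hgg⟩ := exists_strict_factor (p := pA) Ash gC ((algebraMap Bsh Dsh).comp gA) (algebraMap A Csh) (by
    rw [IsScalarTower.algebraMap_eq A C Csh, ← Ideal.comap_comap, comap_algebraMap_atPrime C pC Csh]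
    exact (pC.over_def pA).symm) hsq
  let : Algebra Ash Bsh := gA.toAlgebra
  have : IsLocalHom (algebraMap Ash Bsh) := hgAl
  have : IsScalarTower A Ash Bsh := .of_algebraMap_eq fun a => (RingHom.congr_fun hgA a).symm
  let : Algebra Ash Csh := g.toAlgebra
  have : IsLocalHom (algebraMap Ash Csh) := hgl
  have : IsScalarTower A Ash Csh := .of_algebraMap_eq fun a => (RingHom.congr_fun hg a).symm
  let : Algebra Csh Dsh := gC.toAlgebra
  have : IsLocalHom (algebraMap Csh Dsh) := hgCl
  let : Algebra Ash Dsh := ((algebraMap Bsh Dsh).comp gA).toAlgebra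
  have : IsScalarTower Ash Bsh Dsh := .of_algebraMap_eq fun _ => rfl
  have : IsScalarTower Ash Csh Dsh := .of_algebraMap_eq fun a => (RingHom.congr_fun hgg a).symm
  let : Algebra B Dsh := ((algebraMap Bsh Dsh).comp (algebraMap B Bsh)).toAlgebra
  have : IsScalarTower B Bsh Dsh := .of_algebraMap_eq fun _ => rfl
  have : IsScalarTower B (B ⊗[A] C) Dsh := .of_algebraMap_eq fun b => hBD b
  have : HenselianLocalRing Ash := inferInstance
  have : IsSepClosed (ResidueField Ash) :=
    (Hensel.IsStrictHenselization.isSepClosure (R := Localization.AtPrime pA) (S := Ash)).sep_closed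
  have := isIntegral_strict_of_subalgebras A B pA pB Ash Bsh hB
  have := isPurelyInseparable_strict A B pA pB Ash Bsh
  have hbij := bijective_tensor_strict A B C pB pC pD hDC Ash Bsh Csh Dsh
    (fun c => RingHom.congr_fun hgC c)
  let φ : Bsh ⊗[Ash] Csh ≃ₐ[Bsh] Dsh :=
    AlgEquiv.ofBijective (Algebra.TensorProduct.lift (Algebra.ofId Bsh Dsh) (IsScalarTower.toAlgHom Ash Csh Dsh)
      fun _ _ => Commute.all _ _) hbij
  let : Algebra Ash Ω := ((algebraMap Bsh Ω).comp gA).toAlgebra
  have : IsScalarTower Ash Bsh Ω := .of_algebraMap_eq fun _ => rfl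
  refine hΦ ?_ (h Ash Csh fun a => RingHom.congr_fun hg a)
  exact (((Algebra.TensorProduct.comm Ash Csh Ω).toRingEquiv.trans
    (Algebra.TensorProduct.cancelBaseChange Ash Bsh Bsh Ω Csh).symm.toRingEquiv).trans
      ((Algebra.TensorProduct.comm Bsh Ω (Bsh ⊗[Ash] Csh)).toRingEquiv.trans
        (Algebra.TensorProduct.congr φ (AlgEquiv.refl (R := Bsh) (A₁ := Ω))).toRingEquiv)).toCommRingCatIso

end Groth.Agent.EtRest69
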